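import Mathlib
import Cfsg.Agent.Lib.BN.SzBruhat

/-! Definitions for modules on which all odd order elements act fixed-point-freely. -/

set_option autoImplicit false

namespace Cfsg.Lib.Mart

/-- every non-identity element of odd order has vanishing norm (acts fixed-point-freely) -/
def Hyp {R S V : Type*} [CommRing R] [Group S] [AddCommGroup V] [Module R V] (r : Representation R S V) : Prop :=
  ∀ x : S, Odd (orderOf x) → x ≠ 1 → ∑ i ∈ Finset.range (orderOf x), r (x ^ i) = 0

/-- irreducible representation -/
def Simp {R S V : Type*} [CommRing R] [Group S] [AddCommGroup V] [Module R V] (r : Representation R S V) : Prop :=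
  Nontrivial V ∧ ∀ U : Submodule R V, (∀ g, ∀ y ∈ U, r g y ∈ U) → U = ⊥ ∨ U = ⊤

end Cfsg.Lib.Mart
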