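import Mathlib
import Cfsg.Agent.Lib.Mart.A0

/-! Irreducible modules of `Sz(q)` in characteristic two with fixed-point-free odd elements are natural. -/

set_option autoImplicit false

namespace Cfsg.Lib.Mart
open Cfsg.Lib.BN.Sz Matrix

variable {F : Type*} [Field F] {m : ℕ} [hF : SzField F m]

include hF in
theorem odd_card_units [Fintype Fˣ] : Odd (Fintype.card Fˣ) := by
  have := hF.finite
  rw [← Nat.card_eq_fintype_card, Nat.card_units, hF.card_eq]
  exact Nat.Even.sub_odd (Nat.one_le_two_pow) (Nat.even_pow.2 ⟨even_two, by omega⟩) odd_one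

include hF in
theorem cast_card_units [Fintype Fˣ] : (Fintype.card Fˣ : F) = 1 := by
  have := charP (F := F) m
  obtain ⟨n, hn⟩ := odd_card_units (F := F) (m := m)
  rw [hn]; push_cast; rw [CharTwo.two_eq_zero]; ring

theorem Hyp.sumD {R V : Type*} [CommRing R] [AddCommGroup V] [Module R V] [Fintype Fˣ]
    {r : Representation R (Cfsg.Sz F m) V} (h : Hyp r) : ∑ k : Fˣ, r (D m k) = 0 := by
  classical
  obtain ⟨k, hk⟩ := IsCyclic.exists_generator (α := Fˣ)
  have ho : orderOf (D m k) = orderOf k := orderOf_injective (Dhom m) (D_injective m) k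
  have hc : orderOf k = Fintype.card Fˣ := by
    rw [orderOf_eq_card_of_forall_mem_zpowers hk, Nat.card_eq_fintype_card]
  have h1 : D m k ≠ 1 := fun e => by
    obtain ⟨c, c0, c1⟩ := exists_ne_zero_ne_one (F := F) m
    have k1 : k = 1 := D_injective m (e.trans (D_one m).symm)
    have := hk (Units.mk0 c c0)
    rw [k1, Subgroup.zpowers_one_eq_bot, Subgroup.mem_bot] at this
    exact c1 (congrArg Units.val this)
  rw [← h _ (by rw [ho, hc]; exact odd_card_units (m := m)) h1, ho]
  symm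
  refine Finset.sum_nbij (fun i => k ^ i) (fun _ _ => Finset.mem_univ _)
    (by simpa using pow_injOn_Iio_orderOf) (fun l _ => ?_) (fun i _ => congrArg r (map_pow (Dhom m) k i).symm)
  simpa using mem_zpowers_iff_mem_range_orderOf.1 (hk l)

theorem exists_fixQ {V : Type*} [AddCommGroup V] [Module F V] [Finite V] [Nontrivial V]
    (r : Representation F (Cfsg.Sz F m) V) : ∃ v : V, v ≠ 0 ∧ ∀ a b, r (U m a b) v = v := by
  have := charP (F := F) m
  have := hF.finite
  letI : MulAction (Q F m) V := MulAction.compHom V (r.comp (Q F m).subtype)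
  have hQ : IsPGroup 2 (Q F m) := IsPGroup.of_card (by rw [card_Q, ← pow_mul])
  have := Fact.mk Nat.prime_two
  obtain ⟨y, hy⟩ := exists_ne (0 : V)
  have h2 : addOrderOf y = 2 := addOrderOf_eq_prime (by rw [two_nsmul, ← two_smul F, CharTwo.two_eq_zero, zero_smul]) hy
  obtain ⟨v, hv, h0⟩ := hQ.exists_fixed_point_of_prime_dvd_card_of_fixed_point V (a := 0)
    (h2 ▸ addOrderOf_dvd_natCard y) (fun g => map_zero (r g))
  exact ⟨v, h0.symm, fun a b => hv ⟨_, U_mem_Q m a b⟩⟩

theorem exists_eigen {V : Type*} [AddCommGroup V] [Module F V] [Finite V] [Nontrivial V]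
    (r : Representation F (Cfsg.Sz F m) V) : ∃ (v : V) (j : ℕ), v ≠ 0 ∧ (∀ a b, r (U m a b) v = v) ∧
      ∀ k : Fˣ, r (D m k) v = ((k : F) ^ (j + 1))⁻¹ • v := by
  classical
  have := hF.finite
  have := Fintype.ofFinite Fˣ
  obtain ⟨v, v0, hv⟩ := exists_fixQ r
  have hT : ∀ (k : Fˣ) a b, r (U m a b) (r (D m k) v) = r (D m k) v := fun k a b => by
    have e := D_mul_U m k⁻¹ a b
    have e2 : U m a b * D m k = D m k * U m (k⁻¹ * a) (k⁻¹ * σ m ((k⁻¹ : Fˣ) : F) * b) := by
      rw [D_inv] at e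
      rw [← inv_mul_eq_iff_eq_mul, ← mul_assoc, e, inv_mul_cancel_right]
    rw [← Module.End.mul_apply, ← map_mul, e2, map_mul, Module.End.mul_apply, hv]
  by_contra! hn
  have hz : ∀ j : ℕ, ∑ k : Fˣ, (k : F) ^ (j + 1) • r (D m k) v = 0 := fun j => by
    by_contra h0
    obtain ⟨l, hl⟩ := hn _ j h0 (fun a b => by simp [hT])
    refine hl ?_
    rw [map_sum, Finset.smul_sum, ← Equiv.sum_comp (Equiv.mulLeft l) (fun k : Fˣ => _ • (k : F) ^ (j + 1) • r (D m k) v)]
    refine Finset.sum_congr rfl fun k _ => ?_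
    simp only [Equiv.coe_mulLeft, D_mul, map_mul, map_smul, Module.End.mul_apply, smul_smul, Units.val_mul, mul_pow]
    rw [inv_mul_cancel_left₀ (pow_ne_zero _ l.ne_zero)]
  have hs : ∑ j ∈ Finset.range (Fintype.card Fˣ), ∑ k : Fˣ, (k : F) ^ (j + 1) • r (D m k) v = 0 := by simp [hz]
  rw [Finset.sum_comm, Finset.sum_eq_single 1] at hs
  · simp [D_one, ← Nat.cast_smul_eq_nsmul F, cast_card_units (m := m), v0] at hs
  · intro k _ k1
    rw [← Finset.sum_smul]
    have e : ((k : F) - 1) * ∑ j ∈ Finset.range (Fintype.card Fˣ), (k : F) ^ j = 0 := by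
      rw [mul_geom_sum, ← Units.val_pow_eq_pow_val, pow_card_eq_one]; simp
    have e2 := (mul_eq_zero.1 e).resolve_left (sub_ne_zero.2 fun e => k1 (Units.ext e))
    simp only [pow_succ, ← Finset.sum_mul, e2, zero_mul, zero_smul]
  · simp

/-- the element of order five -/
def x5 (F : Type*) [Field F] (m : ℕ) [SzField F m] : Cfsg.Sz F m := U m 0 1 * w F m

theorem coe_x5 : (x5 F m).1.1 = !![1, 1, 0, 1; 1, 0, 1, 0; 0, 1, 0, 0; 1, 0, 0, 0] := by
  change Umat m 0 1 * suzukiForm F = _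
  ext i j
  fin_cases i <;> fin_cases j <;> simp [Umat, suzukiForm, Matrix.mul_apply, Fin.sum_univ_four, f_def]

omit hF in
theorem coe_mul' (g h : Cfsg.Sz F m) : (g * h).1.1 = g.1.1 * h.1.1 := rfl

theorem x5_pow : x5 F m ^ 5 = 1 := by
  have := charP (F := F) m
  apply ext_mat
  simp only [pow_succ, pow_zero, one_mul, coe_mul', coe_x5]
  change _ = (1 : Matrix (Fin 4) (Fin 4) F)
  ext i j
  fin_cases i <;> fin_cases j <;> simp [Matrix.mul_apply, Fin.sum_univ_four, CharTwo.add_self_eq_zero]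

theorem orderOf_x5 : orderOf (x5 F m) = 5 := by
  have : Fact (Nat.Prime 5) := ⟨by norm_num⟩
  refine orderOf_eq_prime x5_pow fun e => ?_
  have := congrFun (congrFun (coe_x5 (F := F) (m := m)) 3) 0
  rw [e] at this
  simp at this

theorem Hyp.x5 {V : Type*} [AddCommGroup V] [Module F V] {r : Representation F (Cfsg.Sz F m) V} (h : Hyp r)
    (g : Cfsg.Sz F m) (v : V) : r g v + r (g * x5 F m) v + r (g * x5 F m * x5 F m) v +
      r (g * x5 F m * x5 F m * x5 F m) v + r (g * x5 F m * x5 F m * x5 F m * x5 F m) v = 0 := by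
  have := h (Mart.x5 F m) (by rw [orderOf_x5]; decide) (fun e => by simpa [e] using orderOf_x5 (F := F) (m := m))
  rw [orderOf_x5] at this
  simpa [Finset.sum_range_succ, pow_succ] using congrArg (fun t => r g (t v)) this

theorem exists_P {V : Type*} [AddCommGroup V] [Module F V] [Finite V] (r : Representation F (Cfsg.Sz F m) V)
    (hs : Simp r) (h : Hyp r) : ∃ (P : F →+* F) (v : V) (ψ : V →ₗ[F] F), (∀ g, ψ (r g v) = P (g.1.1 3 0)) ∧
      (∀ a b, r (U m a b) v = v) ∧ ∀ k : Fˣ, r (D m k) v = P (k * ρ m (k : F)) • v := by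
  have := charP (F := F) m
  have := hF.finite
  have := hs.1
  obtain ⟨v, j, v0, hv, hD⟩ := exists_eigen r
  have : Finite (Module.Dual F V) := Finite.of_injective _ DFunLike.coe_injective
  obtain ⟨ψ, ψ0, hψ'⟩ := exists_fixQ r.dual
  have hψ : ∀ a b y, ψ (r (U m a b) y) = ψ y := fun a b y => by
    have := congrArg (fun t => t (r (U m a b) y)) (hψ' a b)
    simp only [Representation.dual_apply, Module.Dual.transpose_apply, LinearMap.comp_apply] at this
    rw [← this, ← Module.End.mul_apply, ← map_mul, inv_mul_cancel, map_one, Module.End.one_apply]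
  have hz : U m (0 : F) 1 * U m 0 1 = 1 := by simp [U_mul, CharTwo.add_self_eq_zero, U_zero]
  have h0 : ψ v = 0 := by
    have e := congrArg ψ (h.x5 1 v)
    have e4 : x5 F m * x5 F m * x5 F m * x5 F m = w F m * U m 0 1 := by
      rw [← mul_right_cancel_iff (a := x5 F m), show x5 F m * x5 F m * x5 F m * x5 F m * x5 F m = 1 by
        simpa [pow_succ] using x5_pow (F := F) (m := m), x5, mul_assoc, ← mul_assoc (U m 0 1), hz, one_mul, w_mul_w]
    have e3 : x5 F m * x5 F m * x5 F m = w F m * U m 0 1 * w F m * U m 0 1 := by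
      rw [← mul_right_cancel_iff (a := x5 F m), e4, x5, mul_assoc, ← mul_assoc (U m 0 1), hz, one_mul, mul_assoc,
        w_mul_w, mul_one]
    rw [one_mul, e4, e3] at e
    simp only [x5, map_add, map_mul, Module.End.mul_apply, hv, hψ, map_one, Module.End.one_apply, map_zero] at e
    grind
  have hB : ∀ a b k, ψ (r (U m a b * D m k) v) = 0 := fun a b k => by simp [hψ, hD, h0]
  have hW : ∀ a b c d k, ψ (r (U m a b * w F m * U m c d * D m k) v) = ((k : F) ^ (j + 1))⁻¹ * ψ (r (w F m) v) :=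
    fun a b c d k => by simp [hψ, hD, hv]
  have h1 : ψ (r (w F m) v) ≠ 0 := fun e => by
    have hall : ∀ g, ψ (r g v) = 0 := fun g => by
      rcases bruhat m g with ⟨a, b, k, rfl⟩ | ⟨a, b, c, d, k, rfl⟩
      · exact hB a b k
      · rw [hW, e, mul_zero]
    rcases hs.2 (⨅ g, (LinearMap.ker ψ).comap (r g)) (fun g y hy => by
      simp only [Submodule.mem_iInf, Submodule.mem_comap] at hy ⊢
      intro g'
      simpa using hy (g' * g)) with e | e
    · exact v0 ((Submodule.eq_bot_iff _).1 e v (by simpa using hall))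
    · refine ψ0 (LinearMap.ext fun y => ?_)
      have : y ∈ ⨅ g, (LinearMap.ker ψ).comap (r g) := e ▸ Submodule.mem_top
      simpa using (Submodule.mem_iInf _).1 this 1
  let p : F → F := fun c => ((c ^ 2 / σ m c) ^ (j + 1))⁻¹
  have p0 : p 0 = 0 := by simp [p]
  have p1 : p 1 = 1 := by simp [p]
  have pm : ∀ a b, p (a * b) = p a * p b := fun a b => by
    simp only [p, map_mul, mul_pow]; rw [mul_div_mul_comm, mul_pow, mul_inv]
  have pk : ∀ k : Fˣ, p (k * ρ m (k : F)) = ((k : F) ^ (j + 1))⁻¹ := fun k => by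
    have : σ m (k : F) ≠ 0 := by simp [σ_eq_zero]
    simp only [p, map_mul, σ_ρ, mul_pow, ← σ_eq_ρ_sq]
    congr 2
    field_simp
  have key : ∀ g, (ψ (r (w F m) v))⁻¹ * ψ (r g v) = p (g.1.1 3 0) := fun g => by
    rcases bruhat m g with ⟨a, b, k, rfl⟩ | ⟨a, b, c, d, k, rfl⟩
    · rw [hB, mul_zero, ← p0]
      simp [coe_mul', coe_U, coe_D, Umat, Dmat, Matrix.mul_apply, Fin.sum_univ_four]
    · rw [hW, mul_left_comm, inv_mul_cancel₀ h1, mul_one, ← pk]
      simp [coe_mul', coe_U, coe_D, coe_w, suzukiForm, Umat, Dmat, Matrix.mul_apply, Fin.sum_univ_four]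
  have pa : ∀ c, p (c + 1) = p c + 1 := fun c => by
    have e := congrArg (fun t => (ψ (r (w F m) v))⁻¹ * ψ t) (h.x5 (w F m * U m 0 (ρ m c) * w F m) v)
    simp only [map_add, mul_add, key, map_zero, mul_zero] at e
    simp [coe_mul', coe_x5, coe_U, coe_w, suzukiForm, Umat, Matrix.mul_apply, Fin.sum_univ_four, f_def, σ_ρ, p1] at e
    rw [show c + (ρ m c + 1) + (c + c) + (c + (ρ m c + 1) + ρ m c + (c + (ρ m c + 1))) +
        (c + (ρ m c + 1) + (c + c) + c) + (c + (ρ m c + 1) + (c + c)) = 1 by grind,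
      show c + (ρ m c + 1) + (c + c) + (c + (ρ m c + 1) + ρ m c) + (c + (ρ m c + 1)) = c + 1 by grind,
      show c + (ρ m c + 1) + c + c = c + ρ m c + 1 by grind, p1] at e
    grind
  have padd : ∀ a b, p (a + b) = p a + p b := fun a b => by
    by_cases hb : b = 0
    · simp [hb, p0]
    · rw [show a + b = (a / b + 1) * b by field_simp, pm, pa, add_mul, ← pm, div_mul_cancel₀ _ hb, one_mul]
  exact ⟨⟨⟨⟨p, p1⟩, pm⟩, p0, padd⟩, v, (ψ (r (w F m) v))⁻¹ • ψ, key, hv, fun k => (hD k).trans (by rw [← pk]; rfl)⟩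

theorem exists_nat {V : Type*} [AddCommGroup V] [Module F V] [Finite V] (r : Representation F (Cfsg.Sz F m) V)
    (hs : Simp r) (h : Hyp r) : ∃ (P : F →+* F) (φ : (Fin 4 → F) →ₗ[F] V), Function.Surjective φ ∧
      ∀ g n, r g (φ n) = φ (g.1.1.map P *ᵥ n) := by
  have := charP (F := F) m
  obtain ⟨P, v, ψ, hψ, hv, -⟩ := exists_P r hs h
  have h1 : ψ (r (w F m) v) = 1 := by simp [hψ, coe_w, suzukiForm]
  have inj : ∀ y, (∀ g, ψ (r g y) = 0) → y = 0 := fun y hy => by
    rcases hs.2 (⨅ g, (LinearMap.ker ψ).comap (r g)) (fun g y hy => by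
      simp only [Submodule.mem_iInf, Submodule.mem_comap] at hy ⊢
      intro g'
      simpa using hy (g' * g)) with e | e
    · exact (Submodule.eq_bot_iff _).1 e y (by simpa using hy)
    · have : v ∈ ⨅ g, (LinearMap.ker ψ).comap (r g) := e ▸ Submodule.mem_top
      have := (Submodule.mem_iInf _).1 this (w F m)
      simp [h1] at this
  let φ : (Fin 4 → F) →ₗ[F] V := Fintype.linearCombination F
    ![v, r (x5 F m) v + v + r (w F m) v, r (w F m * x5 F m) v + v + r (w F m) v, r (w F m) v]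
  have hφ : ∀ g n, ψ (r g (φ n)) = (g.1.1.map P *ᵥ n) 3 := fun g n => by
    simp only [φ, Fintype.linearCombination_apply, Fin.sum_univ_four, map_add, map_smul, ← Module.End.mul_apply,
      ← map_mul, hψ, Matrix.cons_val_zero, Matrix.cons_val_one, Matrix.cons_val, smul_eq_mul]
    simp [coe_x5, coe_w, suzukiForm, Matrix.mul_apply, Fin.sum_univ_four, mulVec, dotProduct]
    grind
  have heq : ∀ g n, r g (φ n) = φ (g.1.1.map P *ᵥ n) := fun g n => by
    refine sub_eq_zero.1 (inj _ fun g' => ?_)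
    rw [map_sub, map_sub, hφ, ← Module.End.mul_apply, ← map_mul, hφ, mulVec_mulVec, coe_mul', Matrix.map_mul, sub_self]
  refine ⟨P, φ, LinearMap.range_eq_top.1 ((hs.2 _ ?_).resolve_left fun e => ?_), heq⟩
  · rintro g _ ⟨n, rfl⟩
    exact ⟨_, (heq g n).symm⟩
  · have := hφ 1 (Pi.single 3 1)
    rw [(Submodule.eq_bot_iff _).1 e _ ⟨Pi.single 3 1, rfl⟩] at this
    simp at this

end Cfsg.Lib.Mart
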