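import Cfsg.Agent.Lib.Mart.A0

/-! An equivariant bilinear map from two twisted natural modules of a Suzuki group to a quadratic module
without torus-fixed vectors vanishes. -/

set_option autoImplicit false

namespace Cfsg.Lib.Mart

open Cfsg.Lib.BN.Sz Matrix

variable {F : Type*} [Field F] {m : ℕ} [SzField F m]

namespace PB

theorem two_zero {W : Type*} [AddCommGroup W] [Module F W] {u v : W} {s t : F} (h : s ≠ t) (h1 : u + v = 0)
    (h2 : s • u + t • v = 0) : u = 0 ∧ v = 0 := by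
  have h3 : (s - t) • u = 0 := by linear_combination (norm := module) h2 - t • h1
  have h4 : u = 0 := (smul_eq_zero.1 h3).resolve_left (sub_ne_zero.2 h)
  exact ⟨h4, by simpa [h4] using h1⟩

theorem exists_σ_ne : ∃ a : F, σ m a ≠ a := by
  obtain ⟨k, h0, h1⟩ := exists_ne_zero_ne_one (F := F) m
  refine ⟨k, fun h => h1 ?_⟩
  have h2 := σ_σ m k
  rw [h, h, sq] at h2
  exact (mul_eq_left₀ h0).1 h2.symm

theorem abs {W : Type*} [AddCommGroup W] [Module F W] (P P' : F →+* F) (r : Representation F (Cfsg.Sz F m) W)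
    (hq : ∀ b b' y, r (U m 0 b) (r (U m 0 b') y - y) = r (U m 0 b') y - y)
    (hD : ∀ y, (∀ k, r (D m k) y = y) → y = 0) (b : Fin 4 → Fin 4 → W)
    (K : ∀ (g : Cfsg.Sz F m) i j, r g (b i j) = ∑ k, ∑ l, (P (g.1.1 k i) * P' (g.1.1 l j)) • b k l) (i j : Fin 4) :
    b i j = 0 := by
  have := charP (F := F) m
  have hw : ∀ i j, b i j = 0 → b i.rev j.rev = 0 := fun i j h => by
    have := K (w F m) i j
    rw [h, map_zero] at this
    rw [this]
    fin_cases i <;> fin_cases j <;> simp [Fin.sum_univ_four, coe_w, suzukiForm]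
  have hU : ∀ a c i j, b i j = 0 → ∑ k, ∑ l, (P (Umat m a c k i) * P' (Umat m a c l j)) • b k l = 0 :=
    fun a c i j h => by rw [← coe_U, ← K, h, map_zero]
  suffices H : b 0 0 = 0 ∧ b 0 1 = 0 ∧ b 1 0 = 0 ∧ b 1 1 = 0 ∧ b 0 2 = 0 ∧ b 2 0 = 0 ∧ b 0 3 = 0 ∧ b 1 2 = 0 by
    obtain ⟨a1, a2, a3, a4, a5, a6, a7, a8⟩ := H
    have c1 := hw _ _ a1
    have c2 := hw _ _ a2
    have c3 := hw _ _ a3
    have c4 := hw _ _ a4
    have c5 := hw _ _ a5
    have c6 := hw _ _ a6
    have c7 := hw _ _ a7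
    have c8 := hw _ _ a8
    fin_cases i <;> fin_cases j <;> assumption
  by_cases hP : P = P'
  · subst hP
    have a7 : b 0 3 = 0 := hD _ fun k => by
      have h : ρ m (k : F) ≠ 0 := by simp
      rw [K]
      simp [Fin.sum_univ_four, coe_D, Dmat]
      rw [show P k * P (ρ m k) * ((P (ρ m k))⁻¹ * (P k)⁻¹) = 1 by field_simp, one_smul]
    have a8 : b 1 2 = 0 := hD _ fun k => by
      have h : ρ m (k : F) ≠ 0 := by simp
      rw [K]
      simp [Fin.sum_univ_four, coe_D, Dmat]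
    have c8 : b 2 1 = 0 := hw _ _ a8
    have a2 : b 0 1 = 0 := by simpa [Fin.sum_univ_four, Umat, c8] using hU 0 1 2 1 c8
    have a3 : b 1 0 = 0 := by simpa [Fin.sum_univ_four, Umat, a8] using hU 0 1 1 2 a8
    have e1 := hU 1 0 2 1 c8
    have e2 := hU 1 (-1) 2 1 c8
    simp [Fin.sum_univ_four, Umat, c8, a2, a3] at e1 e2
    have a1 : b 0 0 = 0 := by linear_combination (norm := module) e1 - e2
    obtain ⟨a, ha⟩ := exists_σ_ne (F := F) (m := m)
    have e3 := hU a 0 2 1 c8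
    simp [Fin.sum_univ_four, Umat, c8, a2, a3, a1] at e3
    obtain ⟨a4, a6⟩ := two_zero (fun h => ha (P.injective h)) e2 e3
    have a5 : b 0 2 = 0 := by simpa [Fin.sum_univ_four, Umat, a8, a1, a2, a3, a4] using hU 1 0 1 2 a8
    exact ⟨a1, a2, a3, a4, a5, a6, a7, a8⟩
  obtain ⟨c, hc⟩ : ∃ c, P c ≠ P' c := by
    by_contra H
    push Not at H
    exact hP (RingHom.ext H)
  have hc' : P c + P' c ≠ 0 := fun h => hc (by grind)
  have z : ∀ {u : W}, (P c + P' c) • u = 0 → u = 0 := fun h => (smul_eq_zero.1 h).resolve_left hc'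
  have a1 : b 0 0 = 0 := by
    have e := hq c 1 (b 2 2)
    simp [K, Fin.sum_univ_four, coe_U, Umat, f_def] at e
    exact z (by linear_combination (norm := module) e)
  have a2 : b 0 1 = 0 := by
    have e := hq c 1 (b 2 3)
    simp [K, Fin.sum_univ_four, coe_U, Umat, f_def, a1] at e
    exact z (by linear_combination (norm := module) e)
  have a3 : b 1 0 = 0 := by
    have e := hq c 1 (b 3 2)
    simp [K, Fin.sum_univ_four, coe_U, Umat, f_def, a1] at e
    exact z (by linear_combination (norm := module) e)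
  have a4 : b 1 1 = 0 := by
    have e := hq c 1 (b 3 3)
    simp [K, Fin.sum_univ_four, coe_U, Umat, f_def, a1, a2, a3] at e
    exact z (by linear_combination (norm := module) e)
  have c4 : b 2 2 = 0 := hw _ _ a4
  have c3 : b 2 3 = 0 := hw _ _ a3
  have c2 : b 3 2 = 0 := hw _ _ a2
  have e1 := hU 0 1 2 2 c4
  have e2 := hU 0 c 2 2 c4
  simp [Fin.sum_univ_four, Umat, c4, a1] at e1 e2
  obtain ⟨a5, a6⟩ := two_zero hc e1 e2
  have e3 := hU 0 1 2 3 c3
  have e4 := hU 0 c 2 3 c3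
  simp [Fin.sum_univ_four, Umat, f_def, c3, a1, a2, a6] at e3 e4
  obtain ⟨a7, c8⟩ := two_zero hc e3 e4
  exact ⟨a1, a2, a3, a4, a5, a6, a7, hw _ _ c8⟩

end PB

theorem bilin_nat {W : Type*} [AddCommGroup W] [Module F W] (P P' : F →+* F) (r : Representation F (Cfsg.Sz F m) W)
    (hq : ∀ b b' y, r (U m 0 b) (r (U m 0 b') y - y) = r (U m 0 b') y - y)
    (hD : ∀ y, (∀ k, r (D m k) y = y) → y = 0) (β : (Fin 4 → F) →ₗ[F] (Fin 4 → F) →ₗ[F] W)
    (hβ : ∀ (g : Cfsg.Sz F m) n n', β (g.1.1.map P *ᵥ n) (g.1.1.map P' *ᵥ n') = r g (β n n')) : β = 0 := by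
  have ex : ∀ x y : Fin 4 → F, β x y = ∑ k, ∑ l, (x k * y l) • β (Pi.single k 1) (Pi.single l 1) := fun x y => by
    conv_lhs => rw [pi_eq_sum_univ' x, pi_eq_sum_univ' y]
    simp only [map_sum, map_smul, LinearMap.sum_apply, LinearMap.smul_apply, Finset.smul_sum, smul_smul]
    rw [Finset.sum_comm]
    exact Finset.sum_congr rfl fun k _ => Finset.sum_congr rfl fun l _ => by rw [mul_comm]
  have H := PB.abs P P' r hq hD (fun i j => β (Pi.single i 1) (Pi.single j 1)) fun g i j => by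
    rw [← hβ, ex]
    simp
  ext i j
  simpa using H i j

end Cfsg.Lib.Mart
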