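import Cfsg.Agent.Lib.Mart.B

/-! Dévissage for equivariant bilinear maps. -/

set_option autoImplicit false

namespace Cfsg.Lib.Mart

open Cfsg.Lib.BN.Sz Matrix

universe u

section Dev

variable {R S : Type*} [CommRing R] [Group S]

theorem Hyp.subr {V : Type*} [AddCommGroup V] [Module R V] {r : Representation R S V} (h : Hyp r)
    (U : Submodule R V) (hU : ∀ g, U ≤ U.comap (r g)) : Hyp (r.subrepresentation U hU) := by
  intro x hx h1
  ext y
  have := congrArg (fun φ : V →ₗ[R] V => φ y) (h x hx h1)
  simpa [LinearMap.sum_apply, Representation.subrepresentation] using this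

theorem Hyp.quotr {V : Type*} [AddCommGroup V] [Module R V] {r : Representation R S V} (h : Hyp r)
    (U : Submodule R V) (hU : ∀ g, U ≤ U.comap (r g)) : Hyp (r.quotient U hU) := by
  intro x hx h1
  refine LinearMap.ext fun y => ?_
  obtain ⟨y, rfl⟩ := U.mkQ_surjective y
  have := congrArg (fun φ : V →ₗ[R] V => U.mkQ (φ y)) (h x hx h1)
  simp only [LinearMap.sum_apply, map_sum, LinearMap.zero_apply, map_zero] at this ⊢
  exact this

/-- dévissage along a composition series -/
theorem deviss (P : ∀ (V : Type u) [AddCommGroup V] [Module R V], Representation R S V → Prop)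
    (h0 : ∀ (V : Type u) [AddCommGroup V] [Module R V] (r : Representation R S V), Subsingleton V → P V r)
    (hs : ∀ (V : Type u) [AddCommGroup V] [Module R V] [Finite V] (r : Representation R S V),
      Simp r → Hyp r → P V r)
    (he : ∀ (V : Type u) [AddCommGroup V] [Module R V] (r : Representation R S V) (U : Submodule R V)
      (hU : ∀ g, U ≤ U.comap (r g)), P U (r.subrepresentation U hU) → P (V ⧸ U) (r.quotient U hU) → P V r)
    (V : Type u) [AddCommGroup V] [Module R V] [Finite V] (r : Representation R S V) (h : Hyp r) :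
    P V r := by
  induction hn : Nat.card V using Nat.strong_induction_on generalizing V with
  | _ n ih =>
  rcases subsingleton_or_nontrivial V with hV | hV
  · exact h0 V r hV
  by_cases hS : Simp r
  · exact hs V r hS h
  obtain ⟨U, hU, hb⟩ : ∃ U : Submodule R V, (∀ g, ∀ y ∈ U, r g y ∈ U) ∧ ¬ (U = ⊥ ∨ U = ⊤) := by
    by_contra hc
    push Not at hc
    exact hS ⟨hV, hc⟩
  push Not at hb
  have hU' : ∀ g, U ≤ U.comap (r g) := fun g y hy => hU g y hy
  have hc : Nat.card V = Nat.card U * Nat.card (V ⧸ U) := Submodule.card_eq_card_quotient_mul_card U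
  have : Finite (V ⧸ U) := Finite.of_surjective _ U.mkQ_surjective
  have h1 : 1 < Nat.card U := by
    have : Nontrivial U := Submodule.nontrivial_iff_ne_bot.2 hb.1
    exact Finite.one_lt_card
  have h2 : 1 < Nat.card (V ⧸ U) := by
    have : Nontrivial (V ⧸ U) := Submodule.Quotient.nontrivial_iff.2 hb.2
    exact Finite.one_lt_card
  refine he V r U hU' (ih _ ?_ U _ (h.subr U hU') rfl) (ih _ ?_ (V ⧸ U) _ (h.quotr U hU') rfl)
  · rw [← hn, hc]; nlinarith
  · rw [← hn, hc]; nlinarith

variable {A B W : Type*} [AddCommGroup A] [Module R A] [AddCommGroup B] [Module R B]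
  [AddCommGroup W] [Module R W]

/-- every equivariant bilinear map vanishes -/
def BZ (rA : Representation R S A) (rB : Representation R S B) (rW : Representation R S W) : Prop :=
  ∀ β : A →ₗ[R] B →ₗ[R] W, (∀ g x y, β (rA g x) (rB g y) = rW g (β x y)) → β = 0

theorem BZ.symm {rA : Representation R S A} {rB : Representation R S B} {rW : Representation R S W}
    (h : BZ rA rB rW) : BZ rB rA rW := by
  intro β hβ
  have := h β.flip fun g x y => hβ g y x
  ext x y
  exact congrArg (fun φ : A →ₗ[R] B →ₗ[R] W => φ y x) this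

theorem BZ.extL {rA : Representation R S A} {rB : Representation R S B} {rW : Representation R S W}
    (U : Submodule R A) (hU : ∀ g, U ≤ U.comap (rA g)) (h1 : BZ (rA.subrepresentation U hU) rB rW)
    (h2 : BZ (rA.quotient U hU) rB rW) : BZ rA rB rW := by
  intro β hβ
  have e1 := h1 (β.comp U.subtype) fun g x y => hβ g x y
  have hk : U ≤ LinearMap.ker β := fun x hx =>
    congrArg (fun φ : U →ₗ[R] B →ₗ[R] W => φ ⟨x, hx⟩) e1
  have e2 := h2 (U.liftQ β hk) fun g x y => by
    obtain ⟨x, rfl⟩ := U.mkQ_surjective x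
    exact hβ g x y
  refine LinearMap.ext fun x => ?_
  exact congrArg (fun φ : (A ⧸ U) →ₗ[R] B →ₗ[R] W => φ (U.mkQ x)) e2

theorem BZ.extW {rA : Representation R S A} {rB : Representation R S B} {rW : Representation R S W}
    (U : Submodule R W) (hU : ∀ g, U ≤ U.comap (rW g)) (h1 : BZ rA rB (rW.subrepresentation U hU))
    (h2 : BZ rA rB (rW.quotient U hU)) : BZ rA rB rW := by
  intro β hβ
  have e2 := h2 (β.compr₂ U.mkQ) fun g x y => by
    simp only [LinearMap.compr₂_apply, hβ]
    rfl
  have hm : ∀ x y, β x y ∈ U := fun x y =>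
    (Submodule.Quotient.mk_eq_zero U).1 (congrArg (fun φ : A →ₗ[R] B →ₗ[R] (W ⧸ U) => φ x y) e2)
  have e1 := h1 (LinearMap.mk₂ R (fun x y => (⟨β x y, hm x y⟩ : U))
    (fun _ _ _ => Subtype.ext (by simp)) (fun _ _ _ => Subtype.ext (by simp))
    (fun _ _ _ => Subtype.ext (by simp)) (fun _ _ _ => Subtype.ext (by simp)))
    fun g x y => Subtype.ext (hβ g x y)
  ext x y
  exact congrArg (fun φ : A →ₗ[R] B →ₗ[R] U => (φ x y : W)) e1

end Dev

variable {F : Type*} [Field F] {m : ℕ} [SzField F m]

theorem quad_nat (P : F →+* F) (b b' : F) (n : Fin 4 → F) :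
    (U m 0 b).1.1.map P *ᵥ ((U m 0 b').1.1.map P *ᵥ n - n) = (U m 0 b').1.1.map P *ᵥ n - n := by
  ext i
  fin_cases i <;> simp [coe_U, Umat, mulVec, dotProduct, Fin.sum_univ_four]

end Cfsg.Lib.Mart
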