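import Cfsg.Agent.Lib.Mart.A
import Cfsg.Agent.Lib.Mart.C0

/-! Equivariant bilinear maps between fixed-point-free Suzuki modules vanish. -/

set_option autoImplicit false

namespace Cfsg.Lib.Mart

open Cfsg.Lib.BN.Sz Matrix

variable {F : Type*} [Field F] {m : ℕ} [SzField F m]

theorem bz_simp {A B W : Type*} [AddCommGroup A] [Module F A] [Finite A] [AddCommGroup B] [Module F B]
    [Finite B] [AddCommGroup W] [Module F W] [Finite W] {rA : Representation F (Cfsg.Sz F m) A}
    {rB : Representation F (Cfsg.Sz F m) B} {rW : Representation F (Cfsg.Sz F m) W}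
    (sA : Simp rA) (sB : Simp rB) (sW : Simp rW) (hA : Hyp rA) (hB : Hyp rB) (hW : Hyp rW) :
    BZ rA rB rW := by
  intro β hβ
  obtain ⟨PA, φA, sA', eA⟩ := exists_nat rA sA hA
  obtain ⟨PB, φB, sB', eB⟩ := exists_nat rB sB hB
  obtain ⟨PW, φW, sW', eW⟩ := exists_nat rW sW hW
  have : Finite F := (inferInstance : SzField F m).finite
  have : Fintype Fˣ := Fintype.ofFinite _
  have e := bilin_nat PA PB rW (fun b b' y => by
      obtain ⟨n, rfl⟩ := sW' y
      rw [eW, ← map_sub, eW, quad_nat])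
    (fun y hy => by
      have h1 := congrArg (fun φ : W →ₗ[F] W => φ y) (Hyp.sumD hW)
      simp only [LinearMap.sum_apply, hy, Finset.sum_const, Finset.card_univ,
        LinearMap.zero_apply] at h1
      rwa [← Nat.cast_smul_eq_nsmul F, cast_card_units (m := m), one_smul] at h1)
    (β.compl₁₂ φA φB) (fun g n n' => by
      simp only [LinearMap.compl₁₂_apply]
      rw [← eA, ← eB, hβ])
  ext x y
  obtain ⟨x, rfl⟩ := sA' x
  obtain ⟨y, rfl⟩ := sB' y
  exact congrArg (fun φ : (Fin 4 → F) →ₗ[F] (Fin 4 → F) →ₗ[F] W => φ x y) e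

theorem bilin_zero {A B W : Type*} [AddCommGroup A] [Module F A] [Finite A] [AddCommGroup B] [Module F B]
    [Finite B] [AddCommGroup W] [Module F W] [Finite W] (rA : Representation F (Cfsg.Sz F m) A)
    (rB : Representation F (Cfsg.Sz F m) B) (rW : Representation F (Cfsg.Sz F m) W)
    (hA : Hyp rA) (hB : Hyp rB) (hW : Hyp rW) (β : A →ₗ[F] B →ₗ[F] W)
    (hβ : ∀ g x y, β (rA g x) (rB g y) = rW g (β x y)) : β = 0 := by
  refine (?_ : BZ rA rB rW) β hβ
  refine deviss (fun A _ _ rA => BZ rA rB rW) (fun A _ _ rA hA β _ => Subsingleton.elim _ _) ?_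
    (fun A _ _ rA U hU => BZ.extL U hU) A rA hA
  intro A _ _ _ rA sA hA
  refine BZ.symm (deviss (fun B _ _ rB => BZ rB rA rW) (fun B _ _ rB hB β _ => Subsingleton.elim _ _) ?_
    (fun B _ _ rB U hU => BZ.extL U hU) B rB hB)
  intro B _ _ _ rB sB hB
  refine deviss (fun W _ _ rW => BZ rB rA rW) (fun W _ _ rW hW β _ => Subsingleton.elim _ _) ?_
    (fun W _ _ rW U hU => BZ.extW U hU) W rW hW
  intro W _ _ _ rW sW hW
  exact bz_simp sB sA sW hB hA hW

end Cfsg.Lib.Mart
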