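import Mathlib

/-! Witt vectors of length two over a field of characteristic two. -/

set_option autoImplicit false

namespace Cfsg.Lib.Mart

/-- Witt vectors of length two -/
@[ext] structure W2 (F : Type*) where
  /-- first component -/
  x : F
  /-- second component -/
  y : F

namespace W2

variable {F : Type*} [Field F]

instance : Add (W2 F) := ⟨fun a b => ⟨a.x + b.x, a.y + b.y + a.x * b.x⟩⟩
instance : Mul (W2 F) := ⟨fun a b => ⟨a.x * b.x, a.x ^ 2 * b.y + b.x ^ 2 * a.y⟩⟩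
instance : Neg (W2 F) := ⟨fun a => ⟨a.x, a.y + a.x ^ 2⟩⟩
instance : Zero (W2 F) := ⟨⟨0, 0⟩⟩
instance : One (W2 F) := ⟨⟨1, 0⟩⟩

theorem add_x (a b : W2 F) : (a + b).x = a.x + b.x := rfl
theorem add_y (a b : W2 F) : (a + b).y = a.y + b.y + a.x * b.x := rfl
theorem mul_x (a b : W2 F) : (a * b).x = a.x * b.x := rfl
theorem mul_y (a b : W2 F) : (a * b).y = a.x ^ 2 * b.y + b.x ^ 2 * a.y := rfl
theorem neg_x (a : W2 F) : (-a).x = a.x := rfl
theorem neg_y (a : W2 F) : (-a).y = a.y + a.x ^ 2 := rfl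
theorem zero_x : (0 : W2 F).x = 0 := rfl
theorem zero_y : (0 : W2 F).y = 0 := rfl
theorem one_x : (1 : W2 F).x = 1 := rfl
theorem one_y : (1 : W2 F).y = 0 := rfl

instance [Finite F] : Finite (W2 F) :=
  Finite.of_injective (fun a : W2 F => (a.x, a.y)) fun _ _ h => W2.ext (congrArg Prod.fst h) (congrArg Prod.snd h)

variable [CharP F 2]

instance : CommRing (W2 F) := by
  refine CommRing.ofMinimalAxioms ?_ ?_ ?_ ?_ ?_ ?_ ?_ <;> intros <;> ext <;>
    simp only [add_x, add_y, mul_x, mul_y, neg_x, neg_y, zero_x, zero_y, one_x, one_y] <;> grind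

/-- the multiplicative representatives -/
def τ : F →*₀ W2 F where
  toFun a := ⟨a, 0⟩
  map_zero' := rfl
  map_one' := rfl
  map_mul' a b := by ext <;> simp [mul_x, mul_y]

theorem τ_x (a : F) : (τ a).x = a := rfl
theorem τ_y (a : F) : (τ a).y = 0 := rfl

theorem two_mul_eq (a : W2 F) : 2 * a = ⟨0, a.x ^ 2⟩ := by
  rw [two_mul]; ext <;> simp only [add_x, add_y] <;> grind

theorem two_eq : (2 : W2 F) = ⟨0, 1⟩ := by rw [← mul_one 2, two_mul_eq, one_x, one_pow]

theorem two_ne : (2 : W2 F) ≠ 0 := fun h => one_ne_zero (congrArg W2.y (two_eq.symm.trans h))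

theorem two_mul_two : (2 : W2 F) * 2 = 0 := by rw [two_mul_eq, two_eq]; ext <;> simp [zero_x, zero_y]

theorem four_eq : (4 : W2 F) = 0 := by rw [← two_mul_two]; norm_num

theorem mul_two (a : W2 F) : a * 2 = τ a.x * 2 := by rw [mul_comm, mul_comm (τ _), two_mul_eq, two_mul_eq, τ_x]

theorem τ_add_two (a b : F) : τ (a + b) * 2 = (τ a + τ b) * 2 := (mul_two (τ a + τ b)).symm

theorem τ_sq_add (a b : F) : τ (a ^ 2 + b ^ 2) = τ (a ^ 2) + τ (b ^ 2) + 2 * τ (a * b) := by
  rw [two_mul_eq]; ext <;> simp only [add_x, add_y, τ_x, τ_y] <;> grind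

end W2

end Cfsg.Lib.Mart
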