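import Cfsg.Agent.Lib.Mart.A
import Cfsg.Agent.Lib.Mart.W2

/-! Modules for the Suzuki groups over Witt vectors of length two with fixed-point-free odd elements. -/

set_option autoImplicit false
set_option linter.unusedSectionVars false

namespace Cfsg.Lib.Mart

open Cfsg.Lib.BN.Sz Matrix W2 Finset

variable {F : Type*} [Field F] {m : ℕ} [SzField F m]

variable [CharP F 2] {M : Type*} [AddCommGroup M] [Module (W2 F) M]

theorem odd_nsmul {n : ℕ} (hn : Odd n) {x : M} (hx : (2 : W2 F) • x = 0) : n • x = x := by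
  obtain ⟨k, rfl⟩ := hn
  rw [add_smul, one_smul, mul_comm, mul_smul, two_smul, ← two_smul (W2 F), hx, smul_zero, zero_add]

/-- the projection on a weight space of the torus -/
def prj [Fintype Fˣ] (r : Representation (W2 F) (Cfsg.Sz F m) M) (μ : Fˣ →* W2 F) : M →ₗ[W2 F] M :=
  ∑ k : Fˣ, μ k • r (D m k)

theorem prj_D [Fintype Fˣ] (r : Representation (W2 F) (Cfsg.Sz F m) M) (μ : Fˣ →* W2 F) (l : Fˣ) (y : M) :
    prj r μ (r (D m l) y) = μ l⁻¹ • prj r μ y ∧ r (D m l) (prj r μ y) = μ l⁻¹ • prj r μ y := by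
  have e : μ l⁻¹ • prj r μ y = ∑ k : Fˣ, μ k • r (D m (k * l)) y := by
    rw [prj, LinearMap.sum_apply, smul_sum]
    exact (Fintype.sum_equiv (Equiv.mulRight l) _ _ fun k => by
      rw [LinearMap.smul_apply, smul_smul, ← map_mul, Equiv.coe_mulRight]
      simp only [mul_comm k l, inv_mul_cancel_left]).symm
  rw [e, prj, LinearMap.sum_apply, LinearMap.sum_apply, map_sum]
  exact ⟨sum_congr rfl fun k _ => by rw [LinearMap.smul_apply, D_mul, map_mul, Module.End.mul_apply],
    sum_congr rfl fun k _ => by rw [LinearMap.smul_apply, map_smul, mul_comm, D_mul, map_mul, Module.End.mul_apply]⟩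

/-- the opposite root involutions -/
def zo (m : ℕ) [SzField F m] (b : F) : Cfsg.Sz F m := w F m * U m 0 b * w F m

theorem zo_add (b c : F) : zo m (b + c) = zo m b * zo m c := by
  rw [zo, zo, zo, show ∀ a x y : Cfsg.Sz F m, a * x * a * (a * y * a) = a * (x * (a * a) * y) * a by intros; group,
    w_mul_w, mul_one, U_mul, add_zero, mul_zero, add_zero]

theorem zo_conj (k : Fˣ) : zo m ((k : F) * σ m (k : F)) = D m k⁻¹ * zo m 1 * D m k := by
  have e := D_mul_U m k (0 : F) 1
  rw [mul_zero, mul_one, ← mul_inv_eq_iff_eq_mul, ← D_inv] at e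
  rw [zo, zo, ← e, mul_assoc, mul_assoc, mul_assoc, ← w_mul_D, ← mul_assoc, ← mul_assoc, ← mul_assoc, w_mul_D]
  simp only [mul_assoc]

theorem two_prj [Fintype Fˣ] {r : Representation (W2 F) (Cfsg.Sz F m) M} (h : Hyp r) (P : F →+* F) (μ : Fˣ →* W2 F)
    (hμ : ∀ k, μ k = τ (P (k * ρ m (k : F)))) {v : M} (hv : ∀ k, r (D m k) v = μ k • v) :
    (2 : W2 F) • prj r μ (r (zo m 1) v - v) = 0 := by
  set g : F → M := fun b => prj r μ (r (zo m b) v - v) with hg
  have sq : ∀ k : Fˣ, P (σ m (k * σ m (k : F))) = P (k * ρ m (k : F)) ^ 2 := fun k => by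
    rw [← map_pow, map_mul (σ m), σ_σ, mul_pow, ← σ_eq_ρ_sq, mul_comm]
  have c : ∀ (k : Fˣ) (y : M), prj r μ (r (zo m (k * σ m (k : F))) y - y) =
      μ k • prj r μ (r (zo m 1) (r (D m k) y) - r (D m k) y) := fun k y => by
    rw [← inv_inv k, ← (prj_D r μ k⁻¹ _).1, inv_inv, zo_conj, map_sub (r _), ← Module.End.mul_apply (r (D m k⁻¹)) (r (D m k)),
      ← map_mul, ← D_mul, inv_mul_cancel, D_one, map_one, map_mul, map_mul]
    rfl
  have g1 : ∀ b, g b = τ (P (σ m b)) • g 1 := fun b => by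
    obtain ⟨a, rfl⟩ := mul_σ_surjective m b
    by_cases ha : a = 0
    · simp only [hg, ha, zo, U_zero, zero_mul, mul_one, w_mul_w, map_one, map_zero, zero_smul, Module.End.one_apply, sub_self]
    · lift a to Fˣ using IsUnit.mk0 a ha
      rw [sq, map_pow, ← hμ, pow_two, mul_smul, hg]
      simp only
      rw [c, hv, map_smul, ← smul_sub, map_smul]
  have g2 : ∀ k : Fˣ, prj r μ (r (zo m 1) (r (D m k) (r (zo m 1) v - v)) - r (D m k) (r (zo m 1) v - v)) =
      (2 : W2 F) • g 1 := fun k => by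
    have e := c k (r (zo m 1) v - v)
    have e2 : prj r μ (r (zo m (k * σ m (k : F))) (r (zo m 1) v - v) - (r (zo m 1) v - v)) =
        g (k * σ m (k : F) + 1) - g (k * σ m (k : F)) - g 1 := by
      simp only [hg, ← map_sub (prj r μ), zo_add, map_mul, Module.End.mul_apply, map_sub (r _)]
      congr 1; abel
    rw [e2, g1 (_ + 1), g1 (_ * _), map_add, map_add, map_one, map_one, sq, ← one_pow 2, τ_sq_add, one_pow, map_one,
      mul_one, ← hμ, add_smul, add_smul, one_smul, mul_comm, mul_smul] at e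
    have e3 := congrArg (μ k⁻¹ • ·) e
    simp only [smul_smul (μ k⁻¹), ← map_mul, inv_mul_cancel, map_one, one_smul] at e3
    rw [← e3, show ∀ a b c : M, a + b + c - a - b = c by intros; abel, smul_comm, smul_smul (μ _), ← map_mul, inv_mul_cancel,
      map_one, one_smul]
  have e := sum_congr (s₁ := univ) rfl fun k _ => g2 k
  rw [← map_sum, sum_sub_distrib, ← map_sum, ← LinearMap.sum_apply, h.sumD, sum_const, card_univ,
    odd_nsmul (odd_card_units (m := m)) (by rw [smul_smul, two_mul_two, zero_smul])] at e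
  exact e.symm.trans (by simp)

theorem two_smul_eq_zero [Finite M] (r : Representation (W2 F) (Cfsg.Sz F m) M) (h : Hyp r) (y : M) :
    (2 : W2 F) • y = 0 := by
  classical
  have := SzField.finite (F := F) (m := m)
  let _ := Fintype.ofFinite Fˣ
  by_contra hy
  have := Finite.of_injective _ (SetLike.coe_injective (A := Submodule (W2 F) M))
  obtain ⟨X, ⟨x0, x1, x2⟩, hX⟩ := exists_minimal_of_wellFoundedLT
    (fun X : Submodule (W2 F) M => X ≠ ⊥ ∧ (∀ x ∈ X, ∃ y, x = (2 : W2 F) • y) ∧ ∀ g, ∀ x ∈ X, r g x ∈ X)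
    ⟨LinearMap.range ((2 : W2 F) • LinearMap.id), fun e => hy ((Submodule.eq_bot_iff _).1 e _ ⟨y, rfl⟩),
      fun _ ⟨y, e⟩ => ⟨y, e.symm⟩, fun g _ ⟨y, e⟩ => ⟨r g y, e ▸ (map_smul (r g) _ y).symm⟩⟩
  have t1 : ∀ (c : W2 F), ∀ x ∈ X, c • x = τ c.x • x := fun c x hx => by
    obtain ⟨y, rfl⟩ := x1 x hx
    rw [smul_smul, smul_smul, W2.mul_two]
  let : Module F X :=
    { smul := fun a x => τ a • x
      one_smul := fun x => by change τ (1 : F) • x = x; rw [map_one, one_smul]
      mul_smul := fun a b x => by change τ (a * b) • x = τ a • τ b • x; rw [map_mul, mul_smul]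
      smul_zero := fun a => smul_zero (τ a)
      smul_add := fun a => smul_add (τ a)
      add_smul := fun a b x => Subtype.ext (by
        change τ (a + b) • x.1 = τ a • x.1 + τ b • x.1
        rw [← add_smul, t1 (_ + _) x x.2]; rfl)
      zero_smul := fun x => by change τ (0 : F) • x = 0; rw [map_zero, zero_smul] }
  have t2 : ∀ (a : F) (x : X), (a • x).1 = τ a • x.1 := fun _ _ => rfl
  let s : Representation F (Cfsg.Sz F m) X :=
    { toFun := fun g =>
        { toFun := fun x => ⟨r g x, x2 g x x.2⟩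
          map_add' := fun a b => Subtype.ext (map_add (r g) a.1 b.1)
          map_smul' := fun a b => Subtype.ext (map_smul (r g) (τ a) b.1) }
      map_one' := by ext x; simp
      map_mul' := fun a b => by ext x; simp }
  have t3 : ∀ g (x : X), (s g x).1 = r g x := fun _ _ => rfl
  obtain ⟨P, v, ψ, p1, -, p3⟩ := exists_P s ⟨Submodule.nontrivial_iff_ne_bot.2 x0, fun U hU => by
    let U' : Submodule (W2 F) M :=
      { carrier := {x | ∃ hx : x ∈ X, ⟨x, hx⟩ ∈ U}
        zero_mem' := ⟨X.zero_mem, U.zero_mem⟩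
        add_mem' := fun ⟨a, a'⟩ ⟨b, b'⟩ => ⟨X.add_mem a b, U.add_mem a' b'⟩
        smul_mem' := fun c x ⟨a, a'⟩ => ⟨X.smul_mem c a, by
          have := U.smul_mem c.x a'
          rwa [show c.x • (⟨x, a⟩ : X) = ⟨c • x, X.smul_mem c a⟩ from Subtype.ext (t1 c x a).symm] at this⟩ }
    by_cases e : U' = ⊥
    · exact Or.inl ((Submodule.eq_bot_iff _).2 fun x hx => Subtype.ext ((Submodule.eq_bot_iff _).1 e x ⟨x.2, hx⟩))
    · exact Or.inr (eq_top_iff.2 fun x _ => (hX (y := U') ⟨e, fun x hx => x1 x hx.1,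
        fun g x ⟨a, a'⟩ => ⟨x2 g x a, hU g _ a'⟩⟩ (fun x hx => hx.1) x.2).2)⟩
    fun x h1 h2 => LinearMap.ext fun v => Subtype.ext (by
      have := LinearMap.congr_fun (h x h1 h2) v.1
      rw [LinearMap.sum_apply] at this
      rw [LinearMap.sum_apply, AddSubmonoidClass.coe_finsetSum]
      exact this)
  let μ : Fˣ →* W2 F :=
    { toFun := fun k => τ (P (k * ρ m (k : F)))
      map_one' := by simp
      map_mul' := fun a b => by rw [← map_mul, ← map_mul, Units.val_mul, map_mul (ρ m), mul_mul_mul_comm] }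
  have p4 : ∀ k, r (D m k) v = μ k • v.1 := fun k => congrArg Subtype.val (p3 k)
  obtain ⟨v0, e0⟩ := x1 v v.2
  have v2 : (2 : W2 F) • v.1 = 0 := by rw [e0, smul_smul, two_mul_two, zero_smul]
  have e1 : (2 : W2 F) • prj r (μ.comp invMonoidHom) v0 = v := by
    rw [← map_smul, ← e0, prj, LinearMap.sum_apply, sum_congr rfl fun k _ => show _ = v.1 by
      rw [LinearMap.smul_apply, p4, smul_smul, MonoidHom.comp_apply, invMonoidHom_apply, ← map_mul, inv_mul_cancel, map_one,
        one_smul], sum_const, card_univ, odd_nsmul (odd_card_units (m := m)) v2]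
  have e2 := two_prj h P μ (fun _ => rfl) (v := prj r (μ.comp invMonoidHom) v0) fun k => by
    rw [(prj_D r _ k v0).2, MonoidHom.comp_apply, invMonoidHom_apply, inv_inv]
  rw [← map_smul, smul_sub, ← map_smul, e1] at e2
  have e3 : ∑ k : Fˣ, P (k * ρ m (k : F)) • (s (D m k * zo m 1) v - s (D m k) v) = 0 := Subtype.ext (by
    rw [AddSubmonoidClass.coe_finsetSum, ZeroMemClass.coe_zero, ← e2, prj, LinearMap.sum_apply]
    exact sum_congr rfl fun k _ => by
      rw [t2, AddSubgroupClass.coe_sub, t3, t3, LinearMap.smul_apply, map_sub, map_mul r]; rfl)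
  have e4 := congrArg ψ e3
  rw [map_sum, map_zero, sum_congr rfl fun k _ => show _ = (1 : F) by
    have a : (D m k * zo m 1).1.1 3 0 = ((k : F) * ρ m (k : F))⁻¹ := by
      have b := fun i => w_conj_entry m (U m (0 : F) 1) i 0
      rw [coe_mul', coe_D, Matrix.mul_apply, Fin.sum_univ_four, zo, b, b, b, b]
      simp [Dmat, coe_U, Umat, f_def]
    rw [map_smul, map_sub, p1, p1, a, coe_D, smul_eq_mul, show Dmat m (k : F) 3 0 = 0 from rfl, map_zero, sub_zero,
      ← map_mul, mul_inv_cancel₀ (by simp), map_one], sum_const, card_univ] at e4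
  rw [nsmul_eq_mul, mul_one, cast_card_units (m := m)] at e4
  exact one_ne_zero e4

end Cfsg.Lib.Mart
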