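import Cfsg.Agent.Lib.Exc.CIT1
import Cfsg.Agent.Lib.BG3.CN
import Cfsg.Agent.Lib.Block.ZStar
import Cfsg.Agent.Lib.FT.Sec14d

/-! Non-solvable CN-groups are CIT-groups or simple. -/

set_option autoImplicit false

namespace Cfsg.Lib.Mart

open Subgroup Cfsg.Lib.Exc Cfsg.Lib.BG3 Cfsg.Lib.Amalg

variable {G : Type*} [Group G]

theorem E.semi_l {a b : G} (ha : a * a = 1) (hb : b * b = 1) (n : ℕ) : a * (a * b) ^ n = ((a * b) ^ n)⁻¹ * a := by
  have h : SemiconjBy a (a * b) (a * b)⁻¹ := by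
    have e1 : a⁻¹ = a := inv_eq_of_mul_eq_one_right ha
    have e2 : b⁻¹ = b := inv_eq_of_mul_eq_one_right hb
    show a * (a * b) = (a * b)⁻¹ * a
    rw [mul_inv_rev, e1, e2, ← mul_assoc, ha, one_mul, mul_assoc, ha, mul_one]
  rw [← inv_pow]; exact h.pow_right n

theorem E.semi_r {a b : G} (ha : a * a = 1) (hb : b * b = 1) (n : ℕ) : b * (a * b) ^ n = ((a * b) ^ n)⁻¹ * b := by
  have h : SemiconjBy b (a * b) (a * b)⁻¹ := by
    have e1 : a⁻¹ = a := inv_eq_of_mul_eq_one_right ha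
    have e2 : b⁻¹ = b := inv_eq_of_mul_eq_one_right hb
    show b * (a * b) = (a * b)⁻¹ * b
    rw [mul_inv_rev, e1, e2, mul_assoc]
  rw [← inv_pow]; exact h.pow_right n

theorem E.conj_of_odd {a b : G} (ha : a * a = 1) (hb : b * b = 1) (ho : Odd (orderOf (a * b))) :
    ∃ n : ℕ, (a * b) ^ n * b * ((a * b) ^ n)⁻¹ = a := by
  obtain ⟨n, hn⟩ := ho
  refine ⟨n + 1, ?_⟩
  have h1 : b * ((a * b) ^ (n + 1))⁻¹ = (a * b) ^ (n + 1) * b := by
    rw [mul_inv_eq_iff_eq_mul, mul_assoc, E.semi_r ha hb, mul_inv_cancel_left]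
  rw [mul_assoc, h1, ← mul_assoc, ← pow_add, show n + 1 + (n + 1) = orderOf (a * b) + 1 by omega, pow_succ,
    pow_orderOf_eq_one, one_mul, mul_assoc, hb, mul_one]

theorem E.comm_of_even [Finite G] {a b : G} (ha : a * a = 1) (hb : b * b = 1) (ho : ¬ Odd (orderOf (a * b))) :
    ∃ c : G, c ≠ 1 ∧ Commute c a ∧ Commute c b := by
  obtain ⟨n, hn⟩ := Nat.not_odd_iff_even.1 ho
  have hp := orderOf_pos (a * b)
  have h1 : ((a * b) ^ n)⁻¹ = (a * b) ^ n :=
    inv_eq_of_mul_eq_one_right (by rw [← pow_add, ← hn, pow_orderOf_eq_one])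
  refine ⟨(a * b) ^ n, pow_ne_one_of_lt_orderOf (by omega) (by omega), ?_, ?_⟩
  · show _ * a = a * _
    rw [E.semi_l ha hb, h1]
  · show _ * b = b * _
    rw [E.semi_r ha hb, h1]

variable [Finite G] {H : Subgroup G}

theorem E.ti (hH : Group.IsNilpotent H) (hc : ∀ x ∈ H, x ≠ 1 → centralizer ({x} : Set G) ≤ H) {x : G} (hx : x ∈ H)
    (hx1 : x ≠ 1) {g : G} (hg : g * x * g⁻¹ ∈ H) : g ∈ normalizer (H : Set G) := by
  by_contra hn
  have h1 := CN.ti_of_centralizer_le hH hc g (fun e => hn (mem_normalizer_of_cj_le e.le))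
  have h2 : g * x * g⁻¹ ∈ H ⊓ cj g H := ⟨hg, x, hx, rfl⟩
  rw [h1, mem_bot] at h2
  exact hx1 (by simpa using h2)

theorem E.odd_prod (hH : Group.IsNilpotent H) (hc : ∀ x ∈ H, x ≠ 1 → centralizer ({x} : Set G) ≤ H) {a b g : G}
    (ha : a ∈ H) (ha1 : a ≠ 1) (ha2 : a * a = 1) (hb : b ∈ H) (hb1 : b ≠ 1) (hb2 : b * b = 1)
    (hg : g ∉ normalizer (H : Set G)) : Odd (orderOf (a * (g * b * g⁻¹))) := by
  by_contra ho
  obtain ⟨c, hc1, hca, hcb⟩ := E.comm_of_even ha2 (b := g * b * g⁻¹) (by rw [conj_mul, hb2]; simp) ho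
  have h1 : g⁻¹ * c * g ∈ H := hc b hb hb1 (mem_centralizer_singleton_iff.2 (by
    have := hcb.eq
    calc g⁻¹ * c * g * b = g⁻¹ * (c * (g * b * g⁻¹)) * g := by group
      _ = b * (g⁻¹ * c * g) := by rw [this]; group))
  refine hg (E.ti hH hc h1 (fun e => hc1 ?_) ?_)
  · calc c = g * (g⁻¹ * c * g) * g⁻¹ := by group
      _ = 1 := by rw [e]; simp
  · have : g * (g⁻¹ * c * g) * g⁻¹ = c := by group
    rw [this]; exact hc a ha ha1 (mem_centralizer_singleton_iff.2 hca.eq)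

theorem E.simple (hH : Group.IsNilpotent H) (hc : ∀ x ∈ H, x ≠ 1 → centralizer ({x} : Set G) ≤ H)
    (hn : ¬ H.Normal) {z g0 : G} (hz : z ∈ H) (hz1 : z ≠ 1) (hz2 : z * z = 1) (hzc : H ≤ centralizer ({z} : Set G))
    (h0 : g0 * z * g0⁻¹ ∈ H) (h1 : g0 * z * g0⁻¹ ≠ z) (L : Subgroup G) [hL : L.Normal] (hL1 : L ≠ ⊥) : L = ⊤ := by
  have hn' : ∃ g, g ∉ normalizer (H : Set G) := by
    by_contra h; push Not at h
    exact hn (normalizer_eq_top_iff.1 (eq_top_iff.2 fun g _ => h g))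
  have cz : ∀ g : G, (g * z * g⁻¹) * (g * z * g⁻¹) = 1 := fun g => by rw [conj_mul, hz2]; simp
  have cz1 : ∀ g : G, g * z * g⁻¹ ≠ 1 := fun g e => hz1 (by simpa using e)
  -- `L` does not normalise `H`
  have hl : ∃ l ∈ L, l ∉ normalizer (H : Set G) := by
    by_contra h; push Not at h
    obtain ⟨g, hg⟩ := hn'
    by_cases h2 : ∀ l ∈ L, l * z * l⁻¹ = z
    · obtain ⟨y, hy, hy1⟩ := L.bot_or_exists_ne_one.resolve_left hL1
      have h3 : ∀ l ∈ L, l ∈ H := fun l hl => hc z hz hz1 (mem_centralizer_singleton_iff.2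
        (mul_inv_eq_iff_eq_mul.1 (h2 l hl)))
      exact hg (E.ti hH hc (h3 y hy) hy1 (h3 _ (hL.conj_mem y hy g)))
    · push Not at h2
      obtain ⟨l, hl, hlz⟩ := h2
      have cen : ∀ n ∈ normalizer (H : Set G), ∀ x ∈ H, Commute x (n * z * n⁻¹) := fun n hn x hx => by
        have h4 : n⁻¹ * x * n ∈ H := by
          have := (mem_normalizer_iff.1 (inv_mem hn) x).1 hx
          simpa using this
        have := mem_centralizer_singleton_iff.1 (hzc h4)
        show x * (n * z * n⁻¹) = n * z * n⁻¹ * x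
        calc x * (n * z * n⁻¹) = n * (n⁻¹ * x * n * z) * n⁻¹ := by group
          _ = _ := by rw [this]; group
      set s := l * z * l⁻¹ * z with hs
      have hlzH : l * z * l⁻¹ ∈ H := (mem_normalizer_iff.1 (h l hl) z).1 hz
      have hsH : s ∈ H := mul_mem hlzH hz
      have hsL : s ∈ L := by
        have : s = l * (z * l⁻¹ * z⁻¹) := by
          rw [hs, inv_eq_of_mul_eq_one_right hz2]; group
        rw [this]; exact mul_mem hl (hL.conj_mem _ (inv_mem hl) z)
      have hs1 : s ≠ 1 := fun e => hlz (by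
        rw [← inv_eq_of_mul_eq_one_right hz2]; nth_rewrite 1 [inv_eq_of_mul_eq_one_right hz2]
        exact eq_inv_of_mul_eq_one_left e)
      have hsc : ∀ x ∈ H, Commute x s := fun x hx =>
        (cen l (h l hl) x hx).mul_right (mem_centralizer_singleton_iff.1 (hzc hx))
      have hs2 : s * s = 1 := by
        have := (cen l (h l hl) z hz).eq
        calc s * s = l * z * l⁻¹ * (z * (l * z * l⁻¹)) * z := by rw [hs]; group
          _ = (l * z * l⁻¹ * (l * z * l⁻¹)) * (z * z) := by rw [this]; group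
          _ = 1 := by rw [cz, hz2, one_mul]
      have ho := E.odd_prod hH hc hsH hs1 hs2 hsH hs1 hs2 hg
      set w := g * s * g⁻¹ with hw
      have hw2 : w * w = 1 := by rw [hw, conj_mul, hs2]; simp
      have hwN := h w (hL.conj_mem s hsL g)
      have h5 : w * s * w⁻¹ ∈ H := (mem_normalizer_iff.1 hwN s).1 hsH
      have h6 : (s * w) ^ 4 = 1 := by
        have e := (hsc _ h5).eq
        have ew : w⁻¹ = w := inv_eq_of_mul_eq_one_right hw2
        rw [ew] at e
        calc (s * w) ^ 4 = s * (w * s * w * s) * (w * s * w) := by simp only [pow_succ, pow_zero, one_mul, mul_assoc]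
          _ = (s * s) * (w * (s * ((w * w) * s)) * w) := by rw [e]; simp only [mul_assoc]
          _ = 1 := by rw [hs2, hw2, one_mul, one_mul, hs2, mul_one, hw2]
      have h7 : orderOf (s * w) = 1 :=
        ((Nat.coprime_two_right.2 ho).pow_right 2).eq_one_of_dvd (orderOf_dvd_of_pow_eq_one h6)
      have h8 : w = s := by
        rw [← inv_eq_of_mul_eq_one_right hs2]; exact eq_inv_of_mul_eq_one_right (orderOf_eq_one_iff.1 h7)
      exact hg (E.ti hH hc hsH hs1 (by rw [← hw, h8]; exact hsH))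
  obtain ⟨l, hl, hlN⟩ := hl
  -- elements of odd order that are involutions modulo `L` lie in `L`
  have hu := E.odd_prod hH hc h0 (cz1 g0) (cz g0) hz hz1 hz2 hlN
  obtain ⟨n, hk⟩ := E.conj_of_odd (cz g0) (cz l) hu
  set u := g0 * z * g0⁻¹ * (l * z * l⁻¹) with hu'
  have huL : u ∈ L := by
    have e1 : ((l * z * l⁻¹ : G) : G ⧸ L) = (z : G ⧸ L) := by
      rw [QuotientGroup.mk_mul, QuotientGroup.mk_mul, QuotientGroup.mk_inv, (QuotientGroup.eq_one_iff l).2 hl]; simp
    have e2 : (u : G ⧸ L) ^ 2 = 1 := by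
      rw [hu', QuotientGroup.mk_mul, e1, ← QuotientGroup.mk_mul, ← QuotientGroup.mk_pow]
      have := mem_centralizer_singleton_iff.1 (hzc h0)
      have e3 : (g0 * z * g0⁻¹ * z) ^ 2 = 1 := by
        calc (g0 * z * g0⁻¹ * z) ^ 2 = g0 * z * g0⁻¹ * (z * (g0 * z * g0⁻¹)) * z := by rw [sq]; simp only [mul_assoc]
          _ = (g0 * z * g0⁻¹ * (g0 * z * g0⁻¹)) * (z * z) := by rw [← this]; simp only [mul_assoc]
          _ = 1 := by rw [cz, hz2, one_mul]
      rw [e3]; rfl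
    obtain ⟨m, hm⟩ := hu
    have e4 : (u : G ⧸ L) ^ (2 * m + 1) = 1 := by rw [← hm, ← QuotientGroup.mk_pow, pow_orderOf_eq_one]; rfl
    rw [pow_succ, pow_mul, e2, one_pow, one_mul] at e4
    exact (QuotientGroup.eq_one_iff u).1 e4
  set k := u ^ n * l with hk'
  have hkL : k ∈ L := mul_mem (pow_mem huL n) hl
  have hkz : k * z * k⁻¹ = g0 * z * g0⁻¹ := by rw [← hk, hk']; group
  have hkN := E.ti hH hc hz hz1 (hkz ▸ h0)
  have hkH : k ∉ H := fun e => h1 (by
    rw [← hkz, mem_centralizer_singleton_iff.1 (hzc e), mul_inv_cancel_right])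
  have hHL : H ≤ L := by
    let f : H → H := fun h => ⟨(h : G)⁻¹ * (k * h * k⁻¹), mul_mem (inv_mem h.2) ((mem_normalizer_iff.1 hkN h).1 h.2)⟩
    have hf : Function.Injective f := fun a b e => by
      have e1 : (a : G)⁻¹ * (k * a * k⁻¹) = (b : G)⁻¹ * (k * b * k⁻¹) := congrArg Subtype.val e
      by_contra hne
      refine hkH (hc ((b : G) * (a : G)⁻¹) (mul_mem b.2 (inv_mem a.2))
        (fun e2 => hne (Subtype.ext (mul_inv_eq_one.1 e2).symm)) (mem_centralizer_singleton_iff.2 ?_))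
      calc k * ((b : G) * (a : G)⁻¹) = b * ((b : G)⁻¹ * (k * b * k⁻¹)) * k * (a : G)⁻¹ := by group
        _ = _ := by rw [← e1]; group
    intro x hx
    obtain ⟨a, ha⟩ := Finite.surjective_of_injective hf ⟨x, hx⟩
    have e1 : x = ((a : G)⁻¹ * k * (a : G)⁻¹⁻¹) * k⁻¹ := by
      rw [← (show (a : G)⁻¹ * (k * a * k⁻¹) = x from congrArg Subtype.val ha)]; group
    rw [e1]; exact mul_mem (hL.conj_mem k hkL _) (inv_mem hkL)
  have fin : ∀ g m : G, m ∈ L → m * z * m⁻¹ = g * z * g⁻¹ → g ∈ L := fun g m hm e => by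
    have : m⁻¹ * g ∈ H := hc z hz hz1 (mem_centralizer_singleton_iff.2 (by
      calc m⁻¹ * g * z = m⁻¹ * (g * z * g⁻¹) * g := by group
        _ = _ := by rw [← e]; group))
    simpa using mul_mem hm (hHL this)
  have hzL := hHL hz
  refine eq_top_iff.2 fun g _ => ?_
  by_cases hg : g ∈ normalizer (H : Set G)
  · have h3 : g * z * g⁻¹ ∈ H := (mem_normalizer_iff.1 hg z).1 hz
    obtain ⟨m, hm⟩ := E.conj_of_odd (cz g) (cz l) (E.odd_prod hH hc h3 (cz1 g) (cz g) hz hz1 hz2 hlN)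
    refine fin g ((g * z * g⁻¹ * (l * z * l⁻¹)) ^ m * l)
      (mul_mem (pow_mem (mul_mem (hL.conj_mem z hzL g) (hL.conj_mem z hzL l)) m) hl) ?_
    refine Eq.trans ?_ hm
    generalize (g * z * g⁻¹ * (l * z * l⁻¹)) ^ m = v
    group
  · obtain ⟨m, hm⟩ := E.conj_of_odd hz2 (cz g) (E.odd_prod hH hc hz hz1 hz2 hz hz1 hz2 hg)
    refine fin g ((z * (g * z * g⁻¹)) ^ m)⁻¹ (inv_mem (pow_mem (mul_mem hzL (hL.conj_mem z hzL g)) m)) ?_
    generalize (z * (g * z * g⁻¹)) ^ m = v at hm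
    generalize g * z * g⁻¹ = w at hm
    rw [← hm]; group

theorem cn_cit {G : Type*} [Group G] [Finite G] (hG : ¬ Group.IsSolvable G)
    (hCN : ∀ x : G, x ≠ 1 → Group.IsNilpotent (Subgroup.centralizer ({x} : Set G))) : CIT G ∨ IsSimpleGroup G := by
  refine or_iff_not_imp_left.2 fun hcit => ?_
  simp only [CIT, not_forall] at hcit
  obtain ⟨t, ht, htc⟩ := hcit
  have ht1 : t ≠ 1 := fun e => by simp [e] at ht
  obtain ⟨H, htH, hmax⟩ := Finite.exists_le_maximal (p := fun K : Subgroup G => Group.IsNilpotent K) (hCN t ht1)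
  have hH : Group.IsNilpotent H := hmax.1
  have hmax' : ∀ L : Subgroup G, Group.IsNilpotent L → H ≤ L → L = H := fun L hL h => (hmax.eq_of_le hL h).symm
  have htH' : t ∈ H := htH (mem_centralizer_singleton_iff.2 rfl)
  have h2H : 2 ∣ Nat.card H := by
    have := orderOf_dvd_natCard (⟨t, htH'⟩ : H)
    rwa [orderOf_mk, ht] at this
  have hc : ∀ x ∈ H, x ≠ 1 → centralizer ({x} : Set G) ≤ H := fun x hx hx1 =>
    CN.centralizer_le_of_maximal hCN hH hmax' (fun p hp hP => by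
      haveI := Fact.mk hp
      obtain ⟨n, hn⟩ := hP.exists_card_eq
      have : p = 2 := ((Nat.prime_dvd_prime_iff_eq Nat.prime_two hp).1 (Nat.prime_two.dvd_of_dvd_pow (hn ▸ h2H))).symm
      subst this
      exact htc (hP.to_le htH)) hx hx1
  have hn : ¬ H.Normal := fun hn => by
    have h1 := CN.coprime_index_of_maximal hCN hH hmax'
    have h2 : Odd (Nat.card (G ⧸ H)) := (Nat.Coprime.coprime_dvd_left h2H h1).symm.odd_of_right
    haveI := FT.odd_order_solvable (G ⧸ H) h2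
    exact hG (solvable_of_ker_le_range H.subtype (QuotientGroup.mk' H) (by simp))
  -- a central involution of `H`
  obtain ⟨z, hz, hz1, hz2, hzc⟩ : ∃ z ∈ H, z ≠ 1 ∧ z * z = 1 ∧ H ≤ centralizer ({z} : Set G) := by
    obtain ⟨P⟩ : Nonempty (Sylow 2 H) := inferInstance
    obtain ⟨y, hy, hy1⟩ := (Subgroup.bot_or_exists_ne_one _).resolve_left
      (Core.inf_center_ne_bot_of_normal (P : Subgroup H) (P.ne_bot_of_dvd_card h2H))
    obtain ⟨n, hn⟩ := (T2.of_mem P.isPGroup' hy.1).exists_two hy1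
    refine ⟨(y ^ n : H), (y ^ n).2, fun e => ?_, ?_, fun x hx => mem_centralizer_singleton_iff.2 ?_⟩
    · rw [show y ^ n = 1 from Subtype.ext e] at hn; simp at hn
    · have := pow_orderOf_eq_one (y ^ n)
      rw [hn, sq] at this
      exact congrArg Subtype.val this
    · exact congrArg Subtype.val (mem_center_iff.1 (pow_mem hy.2 n) ⟨x, hx⟩)
  have hz2' : orderOf z = 2 := orderOf_eq_prime (by rw [sq, hz2]) hz1
  have hiso : ¬ IsIsolatedInvolution z := fun hi => by
    haveI := FT.odd_order_solvable _ (Core.odd_card_oddCore G)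
    have hs : Function.Surjective ((QuotientGroup.mk' (oddCore G)).comp H.subtype) := fun q => by
      obtain ⟨g, rfl⟩ := QuotientGroup.mk'_surjective _ q
      have h1 : z * (g * z * g⁻¹) ∈ oddCore G := by
        have := Block.z_star hi g
        rwa [inv_eq_of_mul_eq_one_right hz2, mul_assoc, mul_assoc, ← mul_assoc g] at this
      have h2 : Odd (orderOf (z * (g * z * g⁻¹))) := by
        have := orderOf_dvd_natCard (⟨_, h1⟩ : oddCore G)
        rw [orderOf_mk] at this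
        exact (Core.odd_card_oddCore G).of_dvd_nat this
      obtain ⟨m, hm⟩ := E.conj_of_odd hz2 (b := g * z * g⁻¹) (by rw [conj_mul, hz2]; simp) h2
      have h3 := pow_mem h1 m
      generalize (z * (g * z * g⁻¹)) ^ m = v at hm h3
      refine ⟨⟨v * g, hc z hz hz1 (mem_centralizer_singleton_iff.2 ?_)⟩, ?_⟩
      · calc v * g * z = v * (g * z * g⁻¹) * v⁻¹ * (v * g) := by group
          _ = _ := by rw [hm]
      · simp [(QuotientGroup.eq_one_iff v).2 h3]
    haveI := solvable_of_surjective hs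
    exact hG (solvable_of_ker_le_range (oddCore G).subtype (QuotientGroup.mk' (oddCore G)) (by simp))
  simp only [IsIsolatedInvolution, hz2', true_and, not_forall] at hiso
  obtain ⟨g0, h0, h1⟩ := hiso
  haveI : Nontrivial G := nontrivial_of_ne z 1 hz1
  exact ⟨fun L hL => or_iff_not_imp_left.2 fun hL1 =>
    E.simple hH hc hn hz hz1 hz2 hzc (hc z hz hz1 (mem_centralizer_singleton_iff.2 h0.symm.eq)) h1 L hL1⟩

end Cfsg.Lib.Mart
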