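import Cfsg.Agent.Lib.Exc.T3

/-! CIT-groups with quotient `L₂(q)`, `q = 2ᵏ ± 1`, or `M₁₀`, over a normal `2`-subgroup. -/

set_option autoImplicit false
set_option linter.unusedSectionVars false
set_option linter.unusedSimpArgs false

namespace Cfsg.Lib.Mart

open Subgroup Cfsg.Lib.Exc Cfsg.Lib.Invol Cfsg.Lib.Known Cfsg.Lib.Linear Finset
open scoped IsMulCommutative

universe u

theorem key {G : Type u} [Group G] [Finite G] (h : CIT G) {N : Subgroup G} [hn : N.Normal] (hN : IsPGroup 2 N) {X : Type*} [Group X]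
    (e : G ⧸ N ≃* X) (H : ∀ {A : Type u} [CommGroup A] (φ : X →* MulAut A), (∀ v : A, v * v = 1) →
      (∀ y, ¬ T2 y → ∀ v, φ y v = v → v = 1) → ∀ v : A, v = 1) : N = ⊥ := by
  by_contra h0
  obtain ⟨z, hz, z2, hc⟩ := exists_central hN h0
  let π := e.toMonoidHom.comp (QuotientGroup.mk' N)
  have hπ : Function.Surjective π := e.surjective.comp (QuotientGroup.mk'_surjective N)
  let W : Subgroup G :=
    { carrier := {v | v ∈ N ⊓ centralizer (N : Set G) ∧ v * v = 1}
      mul_mem' := fun {a b} ha hb => ⟨mul_mem ha.1 hb.1, by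
        rw [mul_assoc, ← mul_assoc b, ← hb.1.2 a ha.1.1, mul_assoc, hb.2, mul_one, ha.2]⟩
      one_mem' := ⟨one_mem _, one_mul _⟩
      inv_mem' := fun ha => ⟨inv_mem ha.1, by rw [← mul_inv_rev, ha.2, inv_one]⟩ }
  have : W.Normal := ⟨fun v hv g => ⟨(inferInstance : (N ⊓ centralizer (N : Set G)).Normal).conj_mem v hv.1 g, by
    rw [conj_mul, hv.2, mul_one, mul_inv_cancel]⟩⟩
  have : IsMulCommutative W := ⟨⟨fun a b => Subtype.ext (b.2.1.2 a a.2.1.1)⟩⟩
  let φ : X →* MulAut W := π.liftOfRightInverse _ (Function.rightInverse_surjInv hπ) ⟨MulAut.conjNormal, fun x hx => by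
    ext a
    simp [a.2.1.2 x (by simpa [π] using hx)]⟩
  have hφ : ∀ g, φ (π g) = MulAut.conjNormal g := fun g => π.liftOfRightInverse_comp_apply _ _ _ g
  refine ne_one_of_two z2 (congrArg Subtype.val (H φ (fun v => Subtype.ext v.2.2) (fun y hy v hv => ?_)
    ⟨z, ⟨hz, fun a ha => (hc a ha).symm⟩, mul_self_of_two z2⟩))
  obtain ⟨g, rfl⟩ := hπ y
  rw [hφ] at hv
  exact Subtype.ext (h.eq_one (fun t => hy (t.map π)) (T2.of_sq v.2.2) (mul_inv_eq_iff_eq_mul.1 (congrArg Subtype.val hv)))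

section
variable {X A : Type*} [Group X] [CommGroup A] {φ : X →* MulAut A}

theorem norm (hf : ∀ y, ¬ T2 y → ∀ v, φ y v = v → v = 1) {y : X} (hy : ¬ T2 y) {n : ℕ} (hn : y ^ n = 1) (v : A) :
    ∏ i ∈ range n, φ (y ^ i) v = 1 := hf y hy _ (by
  have h1 := prod_range_succ' (fun i => φ (y ^ i) v) n
  rw [prod_range_succ, hn, pow_zero] at h1
  rw [map_prod, mul_right_cancel h1]
  exact prod_congr rfl fun i _ => by rw [pow_succ', map_mul, MulAut.mul_apply])

theorem conj_prod {f : X} {n : ℕ} (h : ∀ v, ∏ i ∈ range n, φ (f ^ i) v = 1) (k : X) (w : A) : ∏ i ∈ range n, φ (k * f ^ i * k⁻¹) w = 1 := by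
  simpa [map_prod] using congrArg (φ k) (h (φ k⁻¹ w))

theorem a4 [Finite X] (h2 : ∀ v : A, v * v = 1) (hf : ∀ y, ¬ T2 y → ∀ v, φ y v = v → v = 1) {t w x : X} (tt : t * t = 1) (ww : w * w = 1)
    (wt : w * t = t * w) (xt : x * t = t * w * x) (xw : x * w = t * x) (x3 : x * (x * x) = 1) (x1 : x ≠ 1) (v : A) :
    v * φ t v * (φ w v * φ t (φ w v)) = 1 := by
  have r1 : ∀ r, t * (t * r) = r := fun r => by rw [← mul_assoc, tt, one_mul]
  have r2 : ∀ r, w * (w * r) = r := fun r => by rw [← mul_assoc, ww, one_mul]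
  have r3 : ∀ r, w * (t * r) = t * (w * r) := fun r => by rw [← mul_assoc, wt, mul_assoc]
  have r4 : ∀ r, x * (t * r) = t * (w * (x * r)) := fun r => by rw [← mul_assoc, xt, mul_assoc, mul_assoc]
  have r5 : ∀ r, x * (w * r) = t * (x * r) := fun r => by rw [← mul_assoc, xw, mul_assoc]
  have k : ∀ s s', s * s = 1 → s * x * (s * x) = s' * (x * x) → s * x * (s * x * (s * x)) = 1 →
      φ s (φ x v) * φ s' (φ (x * x) v) = v := fun s s' a b c => by
    have := norm hf (y := s * x) (fun e => x1 (by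
      have e1 := e.eq_one (Odd.of_dvd_nat (by decide : Odd 3) (orderOf_dvd_of_pow_eq_one ((pow_three _).trans c)))
      rw [← x3, ← eq_inv_of_mul_eq_one_right e1 |>.symm, ← mul_inv_rev, a, inv_one, mul_one])) ((pow_three _).trans c) v
    simp only [prod_range_succ, prod_range_zero, pow_zero, pow_one, sq, b, map_one, one_mul, map_mul φ s, map_mul φ s',
      MulAut.mul_apply, MulAut.one_apply, mul_assoc] at this
    exact (eq_inv_of_mul_eq_one_right this).trans (inv_eq_of_mul_eq_one_right (h2 v))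
  have k0 := k 1 1 (by simp) (by simp) (by simpa using x3)
  have k1 := k t w tt (by simp only [mul_assoc, r1, r2, r3, r4, r5]) (by simp only [mul_assoc, r1, r2, r3, r4, r5, x3])
  have k2 := k w (t * w) ww (by simp only [mul_assoc, r1, r2, r3, r4, r5]) (by simp only [mul_assoc, r1, r2, r3, r4, r5, x3])
  have k3 := k (t * w) t (by simp only [mul_assoc, r1, r3, ww, tt, mul_one]) (by simp only [mul_assoc, r1, r2, r3, r4, r5])
    (by simp only [mul_assoc, r1, r2, r3, r4, r5, x3])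
  simp only [map_one, map_mul φ t, MulAut.mul_apply, MulAut.one_apply] at k0 k2 k3
  generalize φ x v = a at *
  generalize φ (x * x) v = b at *
  calc _ = v * (φ t a * φ w b) * (φ w a * φ t (φ w b) * (φ t (φ w a) * φ t b)) := by
        nth_rw 2 3 4 [← k0]; simp only [map_mul]; ac_rfl
    _ = _ := by rw [k1, k2, k3, h2]

theorem four (h2 : ∀ v : A, v * v = 1) {t w h : X} (a : ∀ v, v * φ t v * (φ w v * φ t (φ w v)) = 1) (ht : h * t = t * h)
    (hw : h * w * h⁻¹ = h * h * w) (h4 : h * h * (h * h) = t) (v : A) : ∏ i ∈ range 4, φ ((h * h) ^ i) v = 1 := by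
  have k := congrArg (φ h) (a (φ h⁻¹ (φ w⁻¹ v)))
  have k' := a (φ w⁻¹ v)
  have e : ∀ y, φ h (φ t y) = φ t (φ h y) := fun y => by rw [← MulAut.mul_apply, ← map_mul, ht, map_mul, MulAut.mul_apply]
  have e' : φ h (φ w (φ h⁻¹ (φ w⁻¹ v))) = φ (h * h) v := by
    simp only [← MulAut.mul_apply, ← map_mul, ← mul_assoc, hw, mul_inv_cancel_right]
  have e1 : ∀ (s : X) y, φ s (φ s⁻¹ y) = y := fun s y => by simp
  rw [map_mul, map_mul, map_mul, e, e, e', e1, map_one] at k
  rw [e1] at k'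
  have := mul_left_cancel (k.trans k'.symm)
  simp only [prod_range_succ, prod_range_zero, pow_zero, pow_one, sq, pow_three', h4, map_one, one_mul, map_mul φ t,
    MulAut.mul_apply, MulAut.one_apply]
  rw [← h2 (v * φ t v)]; nth_rw 2 [← this]
  generalize φ t (φ (h * h) v) = a, φ (h * h) v = b, φ t v = c
  simp only [mul_comm, mul_left_comm, mul_assoc]

variable {F : Type*} [Field F] [Finite F]

theorem unip {φ : PSL2 F →* MulAut A} (h2 : ∀ v : A, v * v = 1) (hf : ∀ y, ¬ T2 y → ∀ v, φ y v = v → v = 1) (ho : Odd (Nat.card F))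
    {c : Fˣ} {n : ℕ} (hn : 0 < n) (hc : ∀ i, 0 < i → i < n → (c ^ i) ^ 2 ≠ 1)
    (h : ∀ v, ∏ i ∈ range n, φ (pmk F (torusS F c) ^ i) v = 1) (v : A) : v = 1 := by
  let υ : Multiplicative F →* PSL2 F := MonoidHom.mk' (fun b => pmk F (triS 1 b.toAdd)) fun a b => by
    rw [← map_mul, triS_mul]; simp [add_comm]
  have hU : Odd (Nat.card υ.range) := ho.of_dvd_nat (Nat.card_congr (Multiplicative.toAdd (α := F)) ▸ card_range_dvd υ)
  have z : ∀ b, pmk F (triS 1 b) = 1 → b = 0 := fun b e => by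
    rcases pmk_eq_one_iff'.1 e with e | e
    exacts [(triS_inj.1 (e.trans triS_one.symm)).2, (triS_inj.1 (e.trans triS_neg_one.symm)).2]
  refine hf (υ (.ofAdd 1)) (fun t => one_ne_zero (z 1 (t.eq_one (odd_orderOf_of_mem hU ⟨_, rfl⟩)))) v
    (frob_fix φ υ.range (f := pmk F (torusS F c)) (mem_normalizer_fintype ?_) (fun i a b => eq_bot_iff.2 ?_) hn
      (fun k _ => conj_prod h k) ((Nat.coprime_two_left.2 hU).coprime_dvd_left (orderOf_dvd_of_pow_eq_one ((sq v).trans (h2 v)))) ⟨_, rfl⟩)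
  · rintro _ ⟨b, rfl⟩
    refine ⟨.ofAdd (c * b.toAdd * c), eq_mul_inv_of_mul_eq ?_⟩
    change pmk F (triS 1 (c * b.toAdd * c)) * pmk F (triS c 0) = pmk F (triS c 0) * pmk F (triS 1 b.toAdd)
    rw [← map_mul, ← map_mul, triS_mul, triS_mul]; simp
  · rintro _ ⟨⟨b', rfl⟩, e⟩
    have e : pmk F (triS 1 b'.toAdd * triS (c ^ i) 0) = pmk F (triS (c ^ i) 0 * triS 1 b'.toAdd) := by
      rw [map_mul, map_mul, ← torusS_apply, map_pow, map_pow]; exact mem_centralizer_singleton_iff.1 e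
    rw [triS_mul, triS_mul, pmk_eq_iff, neg_triS, triS_inj, triS_inj] at e
    have hc' := hc i a b
    generalize c ^ i = d at e hc'
    have : b'.toAdd = 0 := by
      rcases e with e | e
      · by_contra h0
        refine hc' (Units.ext ?_)
        have e2 := e.2
        have := d.ne_zero
        simp only [Units.val_one, inv_one, mul_zero, zero_add, zero_mul, add_zero] at e2
        field_simp at e2
        simpa using e2
      · have e1 : (d : F) * 2 = 0 := by
          have := congrArg Units.val e.1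
          simp only [mul_one, one_mul, Units.val_neg] at this
          linear_combination this
        have := Fintype.ofFinite F
        have e3 : ((Nat.card F : ℕ) : F) = 0 := by simp
        obtain ⟨m, hm⟩ := ho
        rw [hm] at e3
        have e4 : (2 : F) = 0 := (mul_eq_zero.1 e1).resolve_left d.ne_zero
        simp [e4] at e3
    change pmk F (triS 1 b'.toAdd) = 1
    rw [this, triS_one, map_one]

theorem fermat {φ : PSL2 F →* MulAut A} (h2 : ∀ v : A, v * v = 1) (hf : ∀ y, ¬ T2 y → ∀ v, φ y v = v → v = 1) (ho : Odd (Nat.card F))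
    (h16 : 16 ∣ Nat.card F - 1) (v : A) : v = 1 := by
  obtain ⟨ζ, hζ⟩ := exists_orderOf_eq_of_isCyclic (A := Fˣ) (m := 16) (by rwa [Nat.card_units])
  have np : ∀ j, 0 < j → j < 16 → ζ ^ j ≠ 1 := fun j a b => pow_ne_one_of_lt_orderOf a.ne' (hζ ▸ b)
  obtain ⟨i, hi⟩ : ∃ i : Fˣ, i = ζ ^ 4 := ⟨_, rfl⟩
  have i2 : (i : F) * i = -1 := by
    have : (i : F) * i * (i * i) = 1 := by
      rw [← Units.val_mul, ← Units.val_mul, hi, ← pow_add, ← pow_add, show 4 + 4 + (4 + 4) = 16 from rfl, ← hζ, pow_orderOf_eq_one,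
        Units.val_one]
    exact (mul_self_eq_one_iff.1 this).resolve_left fun e => np 8 (by norm_num) (by norm_num) (Units.ext (by
      rw [show 8 = 4 + 4 from rfl, pow_add, ← hi]; exact e))
  have i3 : (i : F)⁻¹ = -i := inv_eq_of_mul_eq_one_right (by rw [mul_neg, i2, neg_neg])
  have t0 : (2 : F) ≠ 0 := fun e => np 8 (by norm_num) (by norm_num) (Units.ext (by
    rw [show 8 = 4 + 4 from rfl, pow_add, ← hi, Units.val_mul, i2, Units.val_one]; linear_combination -e))
  obtain ⟨s, hs⟩ : ∃ s : F, 2 * s = 1 := ⟨2⁻¹, mul_inv_cancel₀ t0⟩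
  let t : SL2 F := slMat i 0 0 (-i) (by linear_combination -i2)
  let w : SL2 F := slMat 0 1 (-1) 0 (by simp)
  let x : SL2 F := slMat (s * (i - 1)) (s * (i + 1)) (s * (i - 1)) (-s * (i + 1)) (by linear_combination (-2 * s ^ 2) * i2 + (2 * s + 1) * hs)
  have tq : t = torusS F i := Subtype.ext (by rw [torusS_apply, coe_triS, i3]; rfl)
  refine unip h2 hf ho (c := ζ * ζ) (n := 4) (by norm_num) (fun j a b => by
    rw [← sq, ← pow_mul, ← pow_mul]; exact np _ (by omega) (by omega)) (fun v => ?_) v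
  rw [map_mul, map_mul]
  refine four h2 (t := pmk F t) (w := pmk F w) (a4 h2 hf (x := pmk F x) ?_ ?_ ?_ ?_ ?_ ?_ ?_) ?_ ?_ ?_ v
  · rw [← map_mul, pmk_eq_one_iff']
    exact .inr (sl2_ext (by simp [t, slMat_mul, i2]) (by simp [t, slMat_mul]) (by simp [t, slMat_mul]) (by simp [t, slMat_mul, i2]))
  · rw [← map_mul, pmk_eq_one_iff']
    exact .inr (sl2_ext (by simp [w, slMat_mul]) (by simp [w, slMat_mul]) (by simp [w, slMat_mul]) (by simp [w, slMat_mul]))
  · rw [← map_mul, ← map_mul, pmk_eq_iff]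
    exact .inr (sl2_ext (by simp [t, w, slMat_mul]) (by simp [t, w, slMat_mul]) (by simp [t, w, slMat_mul]) (by simp [t, w, slMat_mul]))
  · rw [← map_mul, ← map_mul, ← map_mul]
    refine congrArg _ ?_
    simp only [t, w, x, slMat_mul, slMat_inj]
    exact ⟨by ring, by ring, by ring, by ring⟩
  · rw [← map_mul, ← map_mul]
    refine congrArg _ ?_
    simp only [t, w, x, slMat_mul, slMat_inj]
    exact ⟨by linear_combination (-s) * i2, by linear_combination (-s) * i2, by linear_combination s * i2, by linear_combination (-s) * i2⟩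
  · rw [← pow_three, pmk, QuotientGroup.mk'_apply, psl2_pow_three_eq_one_iff]
    exact .inl (by simp only [x, tr2_slMat]; linear_combination (2 * s + 1) * hs)
  · intro e
    have : s * (i + 1) = 0 := by
      rcases pmk_eq_one_iff'.1 e with e | e <;> simpa [x] using congrFun (congrFun (congrArg Subtype.val e) 0) 1
    exact t0 (by linear_combination (2 - 2 * i) * this + (i * i - 1) * hs + i2)
  · rw [tq, ← map_mul, ← map_mul, ← map_mul, ← map_mul, mul_comm]
  · rw [mul_inv_eq_iff_eq_mul, ← map_mul, ← map_mul, ← map_mul, ← map_mul]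
    refine congrArg _ (Subtype.ext ?_)
    simp [w, torusS_apply, coe_triS]
  · rw [tq, hi, ← map_mul, ← map_mul, ← map_mul, ← map_mul]; congr 2; simp [pow_succ, mul_assoc]

end

theorem eq_bot_odd {G : Type*} [Group G] [Finite G] (h : CIT G) {N : Subgroup G} [N.Normal] (hN : IsPGroup 2 N) {K : Type*} [Field K]
    [Fintype K] {k : ℕ} (hk : 3 ≤ k) (hK : Fintype.card K = 2 ^ k + 1 ∨ Fintype.card K + 1 = 2 ^ k)
    (e : G ⧸ N ≃* Matrix.ProjectiveSpecialLinearGroup (Fin 2) K) : N = ⊥ := by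
  obtain ⟨j, rfl⟩ := Nat.exists_eq_add_of_le' hk
  rw [← Nat.card_eq_fintype_card, pow_add] at hK
  have hj : 0 < 2 ^ j := by positivity
  have ho : Odd (Nat.card K) := Nat.odd_iff.2 (by omega)
  rcases hK with hK | hK
  · rcases j with _ | j
    · exact h.eq_bot_nine hN (Nat.card_eq_fintype_card.symm.trans hK) e
    · exact key h hN e fun φ h2 hf => fermat h2 hf ho (by rw [pow_succ] at hK; omega)
  obtain ⟨r, hr, h1⟩ := Nat.exists_prime_and_dvd (n := 4 * 2 ^ j - 1) (by omega)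
  have h3 : Odd r := Odd.of_dvd_nat (Nat.odd_iff.2 (by omega)) h1
  obtain ⟨c, hc⟩ := exists_orderOf_eq_of_isCyclic (A := Kˣ) (m := r) (by
    rw [Nat.card_units, show Nat.card K - 1 = (4 * 2 ^ j - 1) * 2 by omega]; exact h1.mul_right 2)
  have h4 : ∀ i, 0 < i → i < r → (c ^ i) ^ 2 ≠ 1 := fun i a b e => by
    rw [← pow_mul, ← orderOf_dvd_iff_pow_eq_one, hc] at e
    exact absurd (Nat.le_of_dvd a ((Nat.coprime_two_right.2 h3).dvd_of_dvd_mul_right e)) (by omega)
  have h5 : pmk K (torusS K c) ^ r = 1 := by rw [← map_pow, ← map_pow, ← hc, pow_orderOf_eq_one, map_one, map_one]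
  refine key h hN e fun φ h2 hf => unip h2 hf ho hr.pos h4 (norm hf (fun t => h4 1 one_pos hr.one_lt ?_) h5)
  rcases pmk_eq_one_iff'.1 (t.eq_one (h3.of_dvd_nat (orderOf_dvd_of_pow_eq_one h5))) with e | e
  · rw [(triS_inj.1 (e.trans triS_one.symm)).1]; simp
  · rw [(triS_inj.1 (e.trans triS_neg_one.symm)).1]; simp

theorem eq_bot_nine2 {G : Type*} [Group G] [Finite G] (h : CIT G) {N : Subgroup G} [N.Normal] (hN : IsPGroup 2 N)
    (h9 : Nine2 (G ⧸ N)) : N = ⊥ := by
  obtain ⟨M, _, hi, F, _, _, hF, ⟨e⟩⟩ := h9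
  have := Fact.mk Nat.prime_three
  have : CharP F 3 := charP_of_card_eq_prime_pow (f := 2) hF
  obtain ⟨K, hK⟩ := Sylow.exists_subgroup_card_pow_prime (G := G ⧸ N) 3 (n := 2) (by
    rw [← M.index_mul_card, hi, Nat.card_congr e.toEquiv, card_psl2_nine hF]; norm_num)
  refine h.eq_bot hN (MulEquiv.refl _) K Nat.prime_three Nat.prime_three hK (by decide) fun x hx => ?_
  have h1 : x ∈ M := by
    have h6 := pow_orderOf_eq_one x
    rw [hx, show 3 * 3 = 2 * 4 + 1 from rfl, pow_succ, pow_mul] at h6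
    exact eq_inv_of_mul_eq_one_right h6 ▸ inv_mem (pow_mem (sq_mem_of_index_two hi _) 4)
  have h2 := (PSL2_spectrum 3 _).1 ⟨e ⟨x, h1⟩, rfl⟩
  rw [MulEquiv.orderOf_eq, ← orderOf_coe, Nat.card_eq_fintype_card, hF, hx] at h2
  norm_num at h2

end Cfsg.Lib.Mart
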