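import Cfsg.Agent.Lib.Mart.G0
import Cfsg.Agent.Lib.Mart.C
import Cfsg.Agent.Lib.Mart.D

/-! A normal 2-subgroup of a CIT-group with quotient a Suzuki group is elementary abelian. -/

set_option autoImplicit false

namespace Cfsg.Lib.Mart

open Cfsg.Lib.BN.Sz Cfsg.Lib.Exc Matrix

variable {F : Type*} [Field F] {m : ℕ} [SzField F m]

theorem sz_comm {G : Type*} [Group G] [Finite G] (h : CIT G) {N : Subgroup G} [N.Normal]
    (hN : IsPGroup 2 N) (e : G ⧸ N ≃* Cfsg.Sz F m) : IsMulCommutative N := by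
  have : Finite F := SzField.finite m
  have := charP (F := F) m
  have : Finite (Module.Dual F (Hm N N F)) := Finite.of_injective _ DFunLike.coe_injective
  exact comm_of (R := F) e h hN CharTwo.two_eq_zero fun h1 h2 h3 =>
    bilin_zero _ _ _ h1 h2 h3 _ (cβ_inv e)

theorem sz_exp {G : Type*} [Group G] [Finite G] (h : CIT G) {N : Subgroup G} [N.Normal]
    (hN : IsPGroup 2 N) (e : G ⧸ N ≃* Cfsg.Sz F m) (hc : IsMulCommutative N) : ∀ x ∈ N, x * x = 1 := by
  have : Finite F := SzField.finite m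
  have := charP (F := F) m
  exact exp_of (R := W2 F) e h hN W2.four_eq W2.two_ne (fun H => two_smul_eq_zero _ H) hc

end Cfsg.Lib.Mart
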