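import Cfsg.Agent.Lib.Mart.A0
import Cfsg.Agent.Lib.Exc.CIT6

/-! Modules of additive functions on a normal 2-subgroup. -/

set_option autoImplicit false

namespace Cfsg.Lib.Mart

open Subgroup Cfsg.Lib.Exc
open scoped commutatorElement

theorem hyp_of_fix {R S V : Type*} [CommRing R] [Group S] [AddCommGroup V] [Module R V]
    {r : Representation R S V} (h : ∀ x : S, Odd (orderOf x) → x ≠ 1 → ∀ v, r x v = v → v = 0) :
    Hyp r := fun x h1 h2 => LinearMap.ext fun v => h x h1 h2 _ (by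
  have := Finset.sum_range_succ' (fun i => r (x ^ i)) (orderOf x)
  rw [Finset.sum_range_succ, pow_orderOf_eq_one, pow_zero, add_left_inj] at this
  rw [← Module.End.mul_apply, Finset.mul_sum]
  simp only [← map_mul, ← pow_succ']
  rw [← this])

theorem hyp_dual {R S V : Type*} [CommRing R] [Group S] [AddCommGroup V] [Module R V]
    {r : Representation R S V} (h : Hyp r) : Hyp r.dual := fun x h1 h2 => by
  have := h x⁻¹ (by rwa [orderOf_inv]) (inv_ne_one.2 h2)
  rw [orderOf_inv] at this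
  ext f v
  have := congrArg f (LinearMap.congr_fun this v)
  simpa [Module.Dual.transpose_apply] using this

theorem ex_hom {A : Type*} [Group A] [Finite A] (hc : ∀ a b : A, a * b = b * a) (hA : IsPGroup 2 A)
    {k : ℕ} {x : A} (hx : x ^ 2 ^ k ≠ 1) {R : Type*} [Ring R] (h4 : ((2 ^ (k + 1) : ℕ) : R) = 0) :
    ∃ f : A → R, (∀ x y, f (x * y) = f x + f y) ∧ ∃ x, f x = 1 := by
  classical
  let _ : CommGroup A := { ‹Group A› with mul_comm := hc }
  obtain ⟨ι, _, n, -, ⟨e⟩⟩ := CommGroup.equiv_prod_multiplicative_zmod_of_finite A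
  obtain ⟨i, hi⟩ : ∃ i, e x i ^ 2 ^ k ≠ 1 := by
    by_contra h
    push Not at h
    exact hx (e.injective (by rw [map_pow, map_one]; exact funext h))
  obtain ⟨j, hj⟩ := hA (e.symm (Pi.mulSingle i (Multiplicative.ofAdd 1)))
  have h1 : n i ∣ 2 ^ j := by
    have := congrFun (congrArg e hj) i
    rw [map_pow, e.apply_symm_apply, map_one e, Pi.pow_apply, Pi.mulSingle_eq_same] at this
    replace := congrArg Multiplicative.toAdd this
    rwa [toAdd_pow, toAdd_ofAdd, nsmul_eq_mul, mul_one, Pi.one_apply, toAdd_one,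
      ZMod.natCast_eq_zero_iff] at this
  obtain ⟨l, -, hl⟩ := (Nat.dvd_prime_pow Nat.prime_two).1 h1
  have h2 : ((n i : ℕ) : R) = 0 := by
    have : k + 1 ≤ l := by
      by_contra h
      refine hi (Multiplicative.toAdd.injective ?_)
      rw [toAdd_pow, nsmul_eq_mul, (ZMod.natCast_eq_zero_iff _ _).2 (hl ▸ pow_dvd_pow 2 (by omega)),
        zero_mul, toAdd_one]
    obtain ⟨c, hc⟩ := pow_dvd_pow 2 this
    rw [hl, hc, Nat.cast_mul, h4, zero_mul]
  let ψ : ZMod (n i) →+ R := ZMod.lift (n i) ⟨Int.castAddHom R, by simpa using h2⟩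
  refine ⟨fun x => ψ (e x i).toAdd, fun x y => by simp, e.symm (Pi.mulSingle i (.ofAdd 1)), ?_⟩
  simp only [MulEquiv.apply_symm_apply, Pi.mulSingle_eq_same, toAdd_ofAdd]
  have := ZMod.lift_coe (n i) ⟨Int.castAddHom R, by simpa using h2⟩ 1
  simpa using this

variable {G : Type*} [Group G] (M N : Subgroup G) [M.Normal] (R : Type*) [CommRing R]

/-- the `N`-invariant additive functions on `M`. -/
def Hm : Submodule R (M → R) where
  carrier := {f | (∀ x y, f (x * y) = f x + f y) ∧ ∀ n ∈ N, ∀ x, f (MulAut.conjNormal n x) = f x}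
  add_mem' hf hg := ⟨fun x y => by simp only [Pi.add_apply, hf.1, hg.1]; abel,
    fun n hn x => by simp only [Pi.add_apply, hf.2 n hn, hg.2 n hn]⟩
  zero_mem' := ⟨fun _ _ => by simp, fun _ _ _ => rfl⟩
  smul_mem' c f hf := ⟨fun x y => by simp only [Pi.smul_apply, hf.1, smul_add],
    fun n hn x => by simp only [Pi.smul_apply, hf.2 n hn]⟩

variable {M N R}

theorem add_one' {A : Type*} [Group A] {f : A → R} (h : ∀ x y, f (x * y) = f x + f y) : f 1 = 0 := by
  simpa using h 1 1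

theorem add_inv' {A : Type*} [Group A] {f : A → R} (h : ∀ x y, f (x * y) = f x + f y) (x : A) :
    f x⁻¹ = -f x := by
  rw [eq_neg_iff_add_eq_zero, ← h, inv_mul_cancel, add_one' h]

theorem mem_self {f : M → R} (h : ∀ x y, f (x * y) = f x + f y) : f ∈ Hm M M R :=
  ⟨h, fun n hn x => by
    rw [show MulAut.conjNormal n x = ⟨n, hn⟩ * x * ⟨n, hn⟩⁻¹ from Subtype.ext rfl, h, h, add_inv' h]
    abel⟩

variable [hN : N.Normal]

variable (M N R) in
/-- the conjugation action. -/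
def rG : G →* Module.End R (Hm M N R) where
  toFun g :=
    { toFun := fun f => ⟨fun x => f.1 (MulAut.conjNormal g⁻¹ x), fun x y =>
          (congrArg f.1 (map_mul _ x y)).trans (f.2.1 _ _), fun n hn x =>
          (congrArg f.1 (Subtype.ext (by simp [mul_assoc]))).trans
            (f.2.2 _ (hN.conj_mem n hn g⁻¹) (MulAut.conjNormal g⁻¹ x))⟩
      map_add' := fun _ _ => rfl
      map_smul' := fun _ _ => rfl }
  map_one' := by ext f x; simp
  map_mul' g h := by ext f x; simp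

variable {S : Type*} [Group S] (e : G ⧸ N ≃* S)

variable (M R) in
/-- the representation of the quotient. -/
noncomputable def rS : Representation R S (Hm M N R) :=
  (QuotientGroup.lift N (rG M N R) fun n hn => by
    ext f x
    exact f.2.2 _ (inv_mem hn) x).comp e.symm.toMonoidHom

theorem rS_apply (g : G) (f : Hm M N R) (x : M) :
    (rS M R e (e g) f).1 x = f.1 (MulAut.conjNormal g⁻¹ x) := by
  simp only [rS, MonoidHom.comp_apply, MulEquiv.coe_toMonoidHom, MulEquiv.symm_apply_apply]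
  rfl

theorem e_surj (s : S) : ∃ g : G, e g = s := by
  obtain ⟨x, rfl⟩ := e.surjective s
  obtain ⟨g, rfl⟩ := QuotientGroup.mk_surjective x
  exact ⟨g, rfl⟩

theorem hyp_rS [Finite G] (h : CIT G) (hM : IsPGroup 2 M) : Hyp (rS M R e) :=
  hyp_of_fix fun x h1 h2 f hf => by
    obtain ⟨g, rfl⟩ := e_surj e x
    have : Finite S := Finite.of_equiv _ e.toEquiv
    have h3 : ¬ T2 g⁻¹ := fun a => h2 (((by simpa using a.inv : T2 g).map
      (e.toMonoidHom.comp (QuotientGroup.mk' N))).eq_one h1)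
    ext y
    obtain ⟨z, hz, a⟩ := Coprime.exists_eq_commutator_of_fpf (le_normalizer_of_normal (mem_top g⁻¹))
      (h.fpf hM h3) y.2
    have h4 := rS_apply e g f ⟨z, hz⟩⁻¹
    rw [hf, add_inv' f.2.1] at h4
    rw [show y = ⟨z, hz⟩ * MulAut.conjNormal g⁻¹ ⟨z, hz⟩⁻¹ from Subtype.ext (by simp [a, mul_assoc]),
      f.2.1, ← h4]
    simp

theorem exp_of [Finite G] [Finite R] (h : CIT G) (h2 : IsPGroup 2 N) (r4 : (4 : R) = 0)
    (r2 : (2 : R) ≠ 0) (H : Hyp (rS N R e) → ∀ y : Hm N N R, (2 : R) • y = 0)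
    (hc : IsMulCommutative N) : ∀ x ∈ N, x * x = 1 := fun x hx => by
  by_contra hn
  obtain ⟨f, h3, y, h4⟩ := ex_hom hc.is_comm.comm h2 (k := 1) (x := ⟨x, hx⟩) (R := R)
    (fun a => hn (by simpa [pow_two] using congrArg Subtype.val a)) (by simpa using r4)
  have := congrFun (congrArg Subtype.val (H (hyp_rS e h h2) ⟨f, mem_self h3⟩)) y
  exact r2 (by simpa [h4] using this)

/-- the commutator as an element of the derived subgroup. -/
def cm (a b : N) : (⁅N, N⁆ : Subgroup G) := ⟨⁅(a : G), (b : G)⁆, commutator_mem_commutator a.2 b.2⟩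

theorem cm_left (φ : Hm ⁅N, N⁆ N R) (a a' b : N) :
    φ.1 (cm (a * a') b) = φ.1 (cm a b) + φ.1 (cm a' b) := by
  rw [add_comm, ← φ.2.2 _ a.2 (cm a' b), ← φ.2.1]
  exact congrArg φ.1 (Subtype.ext (by simp [cm, commutatorElement_def, mul_assoc]))

theorem cm_right (φ : Hm ⁅N, N⁆ N R) (a b b' : N) :
    φ.1 (cm a (b * b')) = φ.1 (cm a b) + φ.1 (cm a b') := by
  rw [← φ.2.2 _ b.2 (cm a b'), ← φ.2.1]
  exact congrArg φ.1 (Subtype.ext (by simp [cm, commutatorElement_def, mul_assoc]))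

/-- a slice of the commutator form. -/
def cl (φ : Hm ⁅N, N⁆ N R) (b : N) : Hm N N R :=
  ⟨fun a => φ.1 (cm a b), mem_self fun a a' => cm_left φ a a' b⟩

variable (N R) in
/-- the commutator form. -/
def cβ : Module.Dual R (Hm N N R) →ₗ[R] Hm ⁅N, N⁆ N R →ₗ[R] Hm N N R :=
  LinearMap.mk₂ R (fun ξ φ => ⟨fun b => ξ (cl φ b), mem_self fun b b' => by
      rw [← map_add]; exact congrArg ξ (Subtype.ext (funext fun a => cm_right φ a b b'))⟩)
    (fun _ _ _ => rfl) (fun _ _ _ => rfl)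
    (fun ξ φ ψ => Subtype.ext (funext fun b => map_add ξ (cl φ b) (cl ψ b)))
    (fun c ξ φ => Subtype.ext (funext fun b => map_smul ξ c (cl φ b)))

theorem cβ_inv (s : S) (ξ : Module.Dual R (Hm N N R)) (φ : Hm ⁅N, N⁆ N R) :
    cβ N R ((rS N R e).dual s ξ) (rS ⁅N, N⁆ R e s φ) = rS N R e s (cβ N R ξ φ) := by
  obtain ⟨g, rfl⟩ := e_surj e s
  ext b
  rw [rS_apply]
  show ξ (rS N R e (e g)⁻¹ (cl _ b)) = ξ (cl φ _)
  congr 1
  ext a
  rw [← map_inv, ← QuotientGroup.mk_inv, rS_apply]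
  show (rS ⁅N, N⁆ R e (e g) φ).1 _ = φ.1 _
  rw [rS_apply]
  exact congrArg φ.1 (Subtype.ext (by simp [cm, commutatorElement_def, mul_assoc]))

theorem comm_of [Finite G] [Nontrivial R] (h : CIT G) (h2 : IsPGroup 2 N) (r2 : (2 : R) = 0)
    (H : Hyp (rS N R e).dual → Hyp (rS ⁅N, N⁆ R e) → Hyp (rS N R e) → cβ N R = 0) :
    IsMulCommutative N := by
  have h3 : IsPGroup 2 (⁅N, N⁆ : Subgroup G) := h2.to_le (commutator_le_left N N)
  have h0 := H (hyp_dual (hyp_rS e h h2)) (hyp_rS e h h3) (hyp_rS e h h2)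
  have h1 : ∀ (φ : Hm ⁅N, N⁆ N R) a b, φ.1 (cm a b) = 0 := fun φ a b =>
    congrFun (congrArg Subtype.val (LinearMap.congr_fun (LinearMap.congr_fun h0
      ((LinearMap.proj a).comp (Hm N N R).subtype)) φ)) b
  have h4 : (⁅N, N⁆ : Subgroup G) = ⊥ := by
    by_contra hn
    have := Fact.mk Nat.prime_two
    obtain ⟨x, hx, hx'⟩ := SetLike.exists_of_lt (Core.commutator_lt_of_isPGroup h3 h2
      (le_top.trans le_normalizer_of_normal) hn)
    let K := (⁅⁅N, N⁆, N⁆ : Subgroup G).subgroupOf ⁅N, N⁆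
    obtain ⟨f, f1, y, f2⟩ := ex_hom (A := _ ⧸ K) (fun a b => by
        obtain ⟨a, rfl⟩ := QuotientGroup.mk_surjective a
        obtain ⟨b, rfl⟩ := QuotientGroup.mk_surjective b
        rw [← commutatorElement_eq_one_iff_mul_comm]
        exact (QuotientGroup.eq_one_iff ⁅a, b⁆).2
          (commutator_mem_commutator a.2 (commutator_le_left N N b.2)))
      (h3.to_quotient K) (k := 0) (x := QuotientGroup.mk ⟨x, hx⟩) (R := R)
      (fun a => hx' ((QuotientGroup.eq_one_iff (N := K) ⟨x, hx⟩).1 ((pow_one _).symm.trans a))) (by simpa using r2)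
    let φ : Hm ⁅N, N⁆ N R := ⟨fun x => f x, fun x y => f1 x y, fun n hn x => congrArg f
      (QuotientGroup.eq.2 (by
        have := inv_mem (commutator_mem_commutator (H₁ := ⁅N, N⁆) (inv_mem x.2) hn)
        have h5 : (((MulAut.conjNormal n x)⁻¹ * x : (⁅N, N⁆ : Subgroup G)) : G) = ⁅(x : G)⁻¹, n⁆⁻¹ := by
          simp [commutatorElement_def, mul_assoc]
        exact mem_subgroupOf.2 (h5 ▸ this)))⟩
    obtain ⟨⟨y, hy⟩, rfl⟩ := QuotientGroup.mk_surjective y
    have h6 : φ.1 ⟨y, hy⟩ = 0 := by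
      refine closure_induction (k := _) (p := fun y hy => φ.1 ⟨y, hy⟩ = 0) ?_ (add_one' φ.2.1) ?_ ?_ hy
      · rintro _ ⟨a, ha, b, hb, rfl⟩
        exact h1 φ ⟨a, ha⟩ ⟨b, hb⟩
      · intro a b ha hb e1 e2
        exact (φ.2.1 ⟨a, ha⟩ ⟨b, hb⟩).trans (by rw [e1, e2, add_zero])
      · intro a ha e1
        exact (add_inv' φ.2.1 ⟨a, ha⟩).trans (by rw [e1, neg_zero])
    exact one_ne_zero (f2.symm.trans h6)
  exact ⟨⟨fun a b => Subtype.ext (commutatorElement_eq_one_iff_mul_comm.1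
    (mem_bot.1 (h4 ▸ commutator_mem_commutator a.2 b.2)))⟩⟩

end Cfsg.Lib.Mart
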