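import Cfsg.Agent.Lib.Mart.E
import Cfsg.Agent.Lib.Mart.F
import Cfsg.Agent.S3050
import Cfsg.Agent.S0249

/-! Assembly of the structure theorem for non-solvable CN-groups, modulo the Suzuki module facts. -/

set_option autoImplicit false

namespace Cfsg.Lib.Mart

open Cfsg.Lib Cfsg.Lib.BN.Sz Cfsg.Lib.Exc Subgroup

theorem assemble {G : Type*} [Group G] [Finite G] (hG : ¬ Group.IsSolvable G)
    (hCN : ∀ x : G, x ≠ 1 → Group.IsNilpotent (Subgroup.centralizer ({x} : Set G)))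
    (hSz : CIT G → ∀ (F : Type) [Field F] (m : ℕ) [SzField F m], (G ⧸ pCore 2 G ≃* Cfsg.Sz F m) →
      IsMulCommutative (pCore 2 G) ∧ ∀ x ∈ pCore 2 G, x * x = 1) :
    (IsSimpleGroup G ∧ ¬ IsMulCommutative G) ∨
    (∃ (N : Subgroup G), N.Normal ∧ N.index = 2 ∧ ∃ (F : Type) (_ : Field F) (_ : Fintype F), Fintype.card F = 9 ∧
        Nonempty (N ≃* Matrix.ProjectiveSpecialLinearGroup (Fin 2) F)) ∨
    (∃ (N : Subgroup G) (_ : N.Normal), N ≠ ⊥ ∧ IsPGroup 2 N ∧ IsMulCommutative N ∧ (∀ x ∈ N, x * x = 1) ∧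
        ((∃ (F : Type) (_ : Field F) (_ : Fintype F), CharP F 2 ∧ 4 ≤ Fintype.card F ∧
            Nonempty (G ⧸ N ≃* Matrix.ProjectiveSpecialLinearGroup (Fin 2) F)) ∨ Cfsg.IsSuzuki (G ⧸ N))) := by
  have nc : ¬ IsMulCommutative G := fun h => hG (Group.isSolvable_of_comm fun a b => h.is_comm.comm a b)
  rcases cn_cit hG hCN with hc | hs
  swap
  · exact Or.inl ⟨hs, nc⟩
  have hN := Core.isPGroup_pCore 2 G
  have sim : ∀ {X : Type} [Group X], IsSimpleGroup X → pCore 2 G = ⊥ → (G ⧸ pCore 2 G ≃* X) →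
      IsSimpleGroup G ∧ ¬ IsMulCommutative G := fun h h0 e => by
    obtain ⟨e'⟩ := equiv_of_eq_bot h0 e
    exact ⟨e'.isSimpleGroup, nc⟩
  rcases hc.list_quot hG with (⟨F, _, _, n, h1, h2, ⟨e⟩⟩ | ⟨F, _, _, m, hF, ⟨e⟩⟩ | ⟨F, _, _, k, h1, h2, ⟨e⟩⟩ |
    ⟨F, _, _, h1, ⟨e⟩⟩) | h1
  · have h4 : 4 ≤ Fintype.card F := h2 ▸ Nat.pow_le_pow_right two_pos h1
    by_cases h0 : pCore 2 G = ⊥
    · exact Or.inl (sim (Linear.isSimpleGroup_PSL2 (Nat.card_eq_fintype_card (α := F) ▸ h4)) h0 e)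
    have hch := Linear.charP_two_of_card (Nat.card_eq_fintype_card.trans h2)
    obtain ⟨z, hz⟩ : ∃ z : Matrix.ProjectiveSpecialLinearGroup (Fin 2) F, 3 ∣ orderOf z := by
      obtain ⟨⟨x, hx⟩, y, hy⟩ := psl2_orders F
      rw [Nat.card_eq_fintype_card, gcd_even h2 (by omega), one_mul, h2] at hx hy
      have : ¬ 3 ∣ 2 ^ n := fun h => absurd (Nat.prime_three.dvd_of_dvd_pow h) (by norm_num)
      by_cases h3 : 3 ∣ orderOf x
      exacts [⟨x, h3⟩, ⟨y, by omega⟩]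
    have hz' : orderOf (e.symm (z ^ (orderOf z / 3))) = 3 := by
      rw [MulEquiv.orderOf_eq, orderOf_pow_orderOf_div (orderOf_pos z).ne' hz]
    obtain ⟨R, hR, ⟨f⟩⟩ := hc.exists_lift hN (zpowers (e.symm (z ^ (orderOf z / 3))))
      (by rw [Nat.card_zpowers, hz']; decide)
    have : Fact (Nat.Prime 3) := ⟨Nat.prime_three⟩
    obtain ⟨x, hx⟩ := exists_prime_orderOf_dvd_card' (G := R) 3
      (by rw [Nat.card_congr f.toEquiv, Nat.card_zpowers, hz'])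
    have hx' : orderOf (x : G) = 3 := by rw [orderOf_coe, hx]
    have := (Cfsg.Agent.S3050.result (pCore 2 G) hN n h1 F h2 (e.trans (Known.pmkEquiv (CharP.cast_eq_zero F 2)).symm) x hx'
      fun q hq h => Coprime.inf_centralizer_singleton_eq_bot_iff.1
        (hR x x.2 fun h => by simp [h] at hx') q hq (mul_inv_eq_iff_eq_mul.1 h)).1
    exact Or.inr (Or.inr ⟨_, inferInstance, h0, hN, this.1, fun y hy => sq y ▸ this.2 y hy,
      Or.inl ⟨F, _, _, hch, h4, ⟨e⟩⟩⟩)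
  · have := BN.Sz.isSimpleGroup (F := F) m
    by_cases h0 : pCore 2 G = ⊥
    · exact Or.inl (sim this h0 e)
    obtain ⟨h1, h2⟩ := hSz hc F m e
    exact Or.inr (Or.inr ⟨_, inferInstance, h0, hN, h1, h2, Or.inr ⟨e.isSimpleGroup, m, hF.one_le,
      by rw [Nat.card_congr e.toEquiv, BN.Sz.card_Sz]⟩⟩)
  · have : 2 ^ 3 ≤ 2 ^ k := Nat.pow_le_pow_right two_pos h1
    exact Or.inl (sim (Linear.isSimpleGroup_PSL2 (by rw [Nat.card_eq_fintype_card]; omega))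
      (eq_bot_odd hc hN h1 h2 e) e)
  · exact Or.inl (sim (Cfsg.Agent.S0249.result 3 le_rfl) (hc.eq_bot_psl3 hN (Nat.card_eq_fintype_card.trans h1) e) e)
  · obtain ⟨e⟩ := equiv_of_eq_bot (eq_bot_nine2 hc hN h1) (MulEquiv.refl _)
    obtain ⟨N, hn, hi, F, _, _, h9, ⟨f⟩⟩ := h1
    exact Or.inr (Or.inl ⟨N.comap e.toMonoidHom, hn.comap _, by rw [index_comap_of_surjective _ e.surjective, hi],
      F, _, _, h9, ⟨(e.subgroupMap (N.comap e.toMonoidHom)).trans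
        ((MulEquiv.subgroupCongr (map_comap_eq_self_of_surjective e.surjective N)).trans f)⟩⟩)

end Cfsg.Lib.Mart
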